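import Cfsg.Agent.Lib.FocalOdd.Module
import Cfsg.Agent.Lib.ConjFunctor.TransferMain

/-!
# The Baumann subgroup of a Sylow subgroup in a minimal failure
-/

set_option autoImplicit false
set_option linter.unusedSectionVars false
set_option linter.style.haveILetI false

open scoped commutatorElement MatrixGroups

namespace CfsgLib.FocalOdd

open CfsgLib.ConjFunctor

universe u

/-- The elements acting trivially on `X` modulo `V`. -/
def relC {G : Type*} [Group G] (X V : Subgroup G) [hV : V.Normal] : Subgroup G where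
  carrier := {g | ∀ w ∈ X, g * w * g⁻¹ * w⁻¹ ∈ V}
  one_mem' := fun w _ => by simp
  mul_mem' := fun {g k} hg hk w hw => by
    have e : g * k * w * (g * k)⁻¹ * w⁻¹ = g * (k * w * k⁻¹ * w⁻¹) * g⁻¹ * (g * w * g⁻¹ * w⁻¹) := by
      group
    rw [e]
    exact mul_mem (hV.conj_mem _ (hk w hw) g) (hg w hw)
  inv_mem' := fun {g} hg w hw => by
    have e : g⁻¹ * w * g⁻¹⁻¹ * w⁻¹ = g⁻¹ * (g * w * g⁻¹ * w⁻¹)⁻¹ * g⁻¹⁻¹ := by group
    rw [e]
    exact hV.conj_mem _ (inv_mem (hg w hw)) g⁻¹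

theorem relC_normal {G : Type*} [Group G] (X V : Subgroup G) [hV : V.Normal] [hX : X.Normal] :
    (relC X V).Normal := ⟨fun g hg k w hw => by
  have e : k * g * k⁻¹ * w * (k * g * k⁻¹)⁻¹ * w⁻¹ =
      k * (g * (k⁻¹ * w * k) * g⁻¹ * (k⁻¹ * w * k)⁻¹) * k⁻¹ := by group
  rw [e]
  exact hV.conj_mem _ (hg _ (by simpa using hX.conj_mem w hw k⁻¹)) k⟩

/-- The centralizer of an invariant set is normal. -/
theorem centralizer_set_normal {G : Type*} [Group G] (D : Set G)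
    (hD : ∀ d ∈ D, ∀ k : G, k * d * k⁻¹ ∈ D) : (Subgroup.centralizer D).Normal :=
  ⟨fun g hg k => Subgroup.mem_centralizer_iff.2 fun d hd => by
    have e := Subgroup.mem_centralizer_iff.1 hg _ (hD d hd k⁻¹)
    calc d * (k * g * k⁻¹) = k * (k⁻¹ * d * k⁻¹⁻¹ * g) * k⁻¹ := by group
      _ = k * (g * (k⁻¹ * d * k⁻¹⁻¹)) * k⁻¹ := by rw [e]
      _ = k * g * k⁻¹ * d := by group⟩

variable {p : ℕ} [Fact p.Prime] {G : Type u} [Group G] [Finite G] {S : Sylow p G} {M : Subgroup G}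

namespace Crit

/-- A normal subgroup containing `B(S)` is everything. -/
theorem eq_top_of_B_le (h : Crit p G S M) {N : Subgroup G} (hN : N.Normal)
    (hB : Cfsg.baumannSubgroupOf p (S : Subgroup G) ≤ N) : N = ⊤ := by
  haveI := hN
  exact top_le_iff.1 (h.normalClosure_B.ge.trans (Subgroup.normalClosure_le_normal hB))

set_option maxHeartbeats 1000000 in
/-- `B(S) = S`. -/
theorem baumann_eq (h : Crit p G S M) :
    Cfsg.baumannSubgroupOf p (S : Subgroup G) = (S : Subgroup G) := by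
  classical
  obtain ⟨F, _, _, n, -, -, f, hfs, hfk, hA, hτfix⟩ := h.exists_sl2
  haveI hPn := CfsgLib.Solvable.pCore_normal p G
  haveI hVn := normal_V p G
  set P := Cfsg.pCore p G with hPdef
  set V := Cfsg.omegaOneCenter p P with hVdef
  set J := Cfsg.thompsonSubgroupOf p (S : Subgroup G) with hJdef
  set ZJ := Cfsg.omegaOne p (Cfsg.centerThompsonOf p (S : Subgroup G)) with hZdef
  set B := Cfsg.baumannSubgroupOf p (S : Subgroup G) with hBdef
  have hVe : Cfsg.IsElementaryAbelian p V := CfsgLib.PLocal.omegaCenter_isEA P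
  have hVP : V ≤ P := fun x hx => (omegaOneCenter_spec hx).1
  have hVc : ∀ x ∈ P, ∀ v ∈ V, x * v = v * x := fun x hx v hv => (omegaOneCenter_spec hv).2.1 x hx
  have hPS : P ≤ (S : Subgroup G) := P_le S
  have hJS : J ≤ (S : Subgroup G) := CfsgLib.PLocal.thompsonSubgroupOf_le p _
  have hZe : Cfsg.IsElementaryAbelian p ZJ := CfsgLib.PLocal.omegaCenter_isEA J
  have hZJ : ZJ ≤ J := fun x hx => (CfsgLib.PLocal.omegaOne_le p _ hx).1
  have hZc : ∀ j ∈ J, ∀ z ∈ ZJ, j * z = z * j := fun j hj z hz =>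
    Subgroup.mem_centralizer_iff.1 (CfsgLib.PLocal.omegaOne_le p _ hz).2 j hj
  have hSZ : (S : Subgroup G) ≤ Subgroup.normalizer (ZJ : Set G) := by
    intro s hs
    refine CfsgLib.PLocal.mem_normalizer_of_map_conj_eq ?_
    rw [hZdef, Cfsg.centerThompsonOf,
      CfsgLib.PLocal.omegaCenter_map (f := (MulAut.conj s).toMonoidHom) (MulAut.conj s).injective,
      CfsgLib.PLocal.map_conj_eq_of_mem_normalizer
        (CfsgLib.PLocal.normalizer_le_normalizer_thompsonSubgroupOf _ (Subgroup.le_normalizer hs))]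
  -- `Ω₁(Z(J(S))) ≤ O_p(G)`
  have hp3 : 2 ≤ p - 1 := by
    have h2 := (Fact.out : p.Prime).two_le
    have h3 := h.odd
    omega
  have hZP : ZJ ≤ P := by
    intro x hx
    by_contra hxP
    obtain ⟨U, W, hc, hUP, hnot⟩ := h.engel x (hJS (hZJ hx)) hxP
    haveI := hc.2.2.1
    refine hnot (iterCommutator_le_of_le (m := 2) ?_ hp3)
    show ⁅⁅U, Subgroup.zpowers x⁆, Subgroup.zpowers x⁆ ≤ W
    refine le_trans ?_ (bot_le : ⊥ ≤ W)
    have h1 : ⁅U, Subgroup.zpowers x⁆ ≤ ZJ :=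
      (Subgroup.commutator_mono (hUP.trans hPS) (Subgroup.zpowers_le.2 hx)).trans
        (Subgroup.le_normalizer_iff_commutator_le_right.1 hSZ)
    refine (Subgroup.commutator_mono h1 (Subgroup.zpowers_le.2 hx)).trans (le_of_eq ?_)
    exact Subgroup.commutator_eq_bot_iff_le_centralizer.2
      (Subgroup.le_centralizer_iff_isMulCommutative.2 hZe.1)
  obtain ⟨A₀, hA₀, hA₀P⟩ : ∃ A ∈ CfsgLib.PLocal.maxEAIn p (S : Subgroup G), ¬ A ≤ P := by
    by_contra hcon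
    push Not at hcon
    refine h.not_J_le_P ?_
    rw [CfsgLib.PLocal.thompsonSubgroupOf_eq]
    exact sSup_le hcon
  obtain ⟨hA₀S, -, -, hA₀'⟩ := hA A₀ hA₀ hA₀P
  set A₁ := (A₀ ⊓ P) ⊔ V with hA₁
  have hA₁P : A₁ ≤ P := sup_le inf_le_right hVP
  have hPS' : ∀ X ∈ CfsgLib.PLocal.maxEAIn p P, X ∈ CfsgLib.PLocal.maxEAIn p (S : Subgroup G) :=
    fun X hX => ⟨hX.1.trans hPS, hX.2.1, fun D hD hDe =>
      (hA₀'.2.2 D hD hDe).trans (hX.2.2 A₁ hA₁P hA₀'.2.1)⟩
  have hSP' : ∀ X ∈ CfsgLib.PLocal.maxEAIn p (S : Subgroup G), X ≤ P →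
      X ∈ CfsgLib.PLocal.maxEAIn p P := fun X hX hXP =>
    ⟨hXP, hX.2.1, fun D hD hDe => hX.2.2 D (hD.trans hPS) hDe⟩
  set JP := Cfsg.thompsonSubgroupOf p P with hJP
  have hJPJ : JP ≤ J := by
    rw [hJP, hJdef, CfsgLib.PLocal.thompsonSubgroupOf_eq, CfsgLib.PLocal.thompsonSubgroupOf_eq]
    exact sSup_le_sSup hPS'
  have hA₁JP : A₁ ≤ JP := by
    rw [hJP, CfsgLib.PLocal.thompsonSubgroupOf_eq]
    exact le_sSup (hSP' _ hA₀' hA₁P)
  set Y := Cfsg.omegaOne p (Cfsg.centerThompsonOf p P) with hYdef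
  have hYe : Cfsg.IsElementaryAbelian p Y := CfsgLib.PLocal.omegaCenter_isEA JP
  have hYP : Y ≤ P := fun x hx =>
    CfsgLib.PLocal.thompsonSubgroupOf_le p P (CfsgLib.PLocal.omegaOne_le p _ hx).1
  have hYc : ∀ X ∈ CfsgLib.PLocal.maxEAIn p P, X ≤ Subgroup.centralizer (Y : Set G) := by
    intro X hX x hx y hy
    have hxJ : x ∈ JP := by
      rw [hJP, CfsgLib.PLocal.thompsonSubgroupOf_eq]
      exact le_sSup hX hx
    exact (Subgroup.mem_centralizer_iff.1 (CfsgLib.PLocal.omegaOne_le p _ hy).2 x hxJ).symm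
  haveI hYn : Y.Normal := by
    refine Subgroup.normalizer_eq_top_iff.1 (top_le_iff.1 fun g _ => ?_)
    refine CfsgLib.PLocal.mem_normalizer_of_map_conj_eq ?_
    rw [hYdef, Cfsg.centerThompsonOf,
      CfsgLib.PLocal.omegaCenter_map (f := (MulAut.conj g).toMonoidHom) (MulAut.conj g).injective,
      CfsgLib.PLocal.map_conj_eq_of_mem_normalizer
        (CfsgLib.PLocal.normalizer_le_normalizer_thompsonSubgroupOf _
          ((Subgroup.normalizer_eq_top (H := P)).ge (Subgroup.mem_top g)))]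
  have hVY : V ≤ Y := fun v hv => CfsgLib.PLocal.mem_omegaOne
    ⟨hA₁JP (Subgroup.mem_sup_right hv), Subgroup.mem_centralizer_iff.2 fun y hy =>
      hVc y (CfsgLib.PLocal.thompsonSubgroupOf_le p P hy) v hv⟩ (hVe.2 v hv)
  have hZY : ZJ ≤ Y := fun z hz => by
    refine CfsgLib.PLocal.mem_omegaOne ⟨hA₁JP ?_, Subgroup.mem_centralizer_iff.2 fun y hy =>
      hZc y (hJPJ hy) z hz⟩ (hZe.2 z hz)
    exact CfsgLib.PLocal.mem_maxEAIn_of_centralizing hA₀' (hJS (hZJ hz))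
      (Subgroup.mem_centralizer_iff.2 fun a ha => hZc a (hJPJ (hA₁JP ha)) z hz) (hZe.2 z hz)
  -- every offender is trivial on `Y / V`
  have hAY : ∀ A ∈ CfsgLib.PLocal.maxEAIn p (S : Subgroup G), A ≤ relC Y V := by
    intro A hAm a ha
    by_cases hAP : A ≤ P
    · intro y hy
      rw [← Subgroup.mem_centralizer_iff.1 (hYc A (hSP' A hAm hAP) ha) y hy]
      simp
    · obtain ⟨-, e1, e2, hA'⟩ := hA A hAm hAP
      have hc : A ⊓ P ≤ Subgroup.centralizer (Y : Set G) :=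
        le_sup_left.trans (hYc _ (hSP' _ hA' (sup_le inf_le_right hVP)))
      have hX := hAm.2.2 ((A ⊓ P) ⊔ Y) (sup_le (inf_le_left.trans hAm.1) (hYP.trans hPS))
        (CfsgLib.PLocal.isEA_sup (CfsgLib.PLocal.isEA_mono hAm.2.1 inf_le_left) hYe hc)
      have hXc := CfsgLib.PLoc.card_sup_mul_card_inf (H := A ⊓ P) (N := Y)
        Subgroup.le_normalizer_of_normal
      rw [show (A ⊓ P) ⊓ Y = Y ⊓ A by rw [inf_assoc, inf_eq_right.2 hYP, inf_comm]] at hXc
      have hKc := CfsgLib.PLoc.card_sup_mul_card_inf (H := Y ⊓ A) (N := V)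
        Subgroup.le_normalizer_of_normal
      rw [show (Y ⊓ A) ⊓ V = V ⊓ A by rw [inf_comm (Y ⊓ A), ← inf_assoc, inf_eq_left.2 hVY]] at hKc
      have hK : (Y ⊓ A) ⊔ V = Y := by
        refine Subgroup.eq_of_le_of_card_ge (sup_le inf_le_left hVY) ?_
        have h1 : Nat.card Y ≤ p ^ n * Nat.card ↥(Y ⊓ A) := by
          refine Nat.le_of_mul_le_mul_left ?_ (Nat.card_pos (α := ↥(A ⊓ P)))
          rw [← hXc]
          refine (Nat.mul_le_mul_right _ hX).trans (le_of_eq ?_)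
          rw [e1]; ring
        refine h1.trans (le_of_eq (Nat.eq_of_mul_eq_mul_right (Nat.card_pos (α := ↥(V ⊓ A))) ?_))
        rw [hKc, e2]; ring
      intro y hy
      obtain ⟨b, hb, v, hv, rfl⟩ := Subgroup.mem_sup_of_normal_right.1 (hK.ge hy)
      have hab : b * a = a * b := (CfsgLib.PLocal.commute_of_mem_comm hAm.2.1.1 hb.2 ha).eq
      have e : a * (b * v) * a⁻¹ * (b * v)⁻¹ = b * (a * v * a⁻¹ * v⁻¹) * b⁻¹ := by
        calc a * (b * v) * a⁻¹ * (b * v)⁻¹ = a * b * v * a⁻¹ * v⁻¹ * b⁻¹ := by group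
          _ = b * a * v * a⁻¹ * v⁻¹ * b⁻¹ := by rw [hab]
          _ = b * (a * v * a⁻¹ * v⁻¹) * b⁻¹ := by group
      rw [e]
      exact hVn.conj_mem _ (mul_mem (hVn.conj_mem v hv a) (inv_mem hv)) b
  haveI hN1n : (relC Y V).Normal := relC_normal Y V
  have hJN : J ≤ relC Y V := by
    rw [hJdef, CfsgLib.PLocal.thompsonSubgroupOf_eq]
    exact sSup_le hAY
  have hSJP : (S : Subgroup G) ≤ J ⊔ P := by
    rw [← hA₀S]
    refine sup_le_sup_right ?_ _
    rw [hJdef, CfsgLib.PLocal.thompsonSubgroupOf_eq]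
    exact le_sSup hA₀
  have hBS : B ≤ (S : Subgroup G) := inf_le_left
  -- `W = ZJ V`
  set W := ZJ ⊔ V with hWdef
  have hWY : W ≤ Y := sup_le hZY hVY
  have hWe : Cfsg.IsElementaryAbelian p W := CfsgLib.PLocal.isEA_mono hYe hWY
  have hWcomm : ∀ a ∈ W, ∀ b ∈ W, a * b = b * a := fun a ha b hb =>
    (CfsgLib.PLocal.commute_of_mem_comm hWe.1 ha hb).eq
  have hN1W : ∀ g ∈ relC Y V, ∀ w ∈ W, g * w * g⁻¹ ∈ W := fun g hg w hw => by
    simpa using mul_mem (Subgroup.mem_sup_right (hg w (hWY hw)) : g * w * g⁻¹ * w⁻¹ ∈ W) hw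
  haveI hWn : W.Normal := by
    refine Subgroup.normalizer_eq_top_iff.1 ?_
    have h1 : relC Y V ⊔ P = ⊤ := h.eq_top_of_B_le inferInstance
      (hBS.trans (hSJP.trans (sup_le_sup_right hJN P)))
    refine top_le_iff.1 (h1.ge.trans (sup_le (fun g hg => ?_) (hPS.trans fun s hs => ?_)))
    · refine Subgroup.mem_normalizer_iff.2 fun w => ⟨hN1W g hg w, fun hw => ?_⟩
      simpa [mul_assoc] using hN1W g⁻¹ (inv_mem hg) _ hw
    · refine CfsgLib.PLocal.mem_normalizer_of_map_conj_eq ?_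
      rw [hWdef, Subgroup.map_sup, CfsgLib.PLocal.map_conj_eq_of_mem_normalizer (hSZ hs),
        CfsgLib.PLocal.map_conj_eq_of_mem_normalizer
          ((Subgroup.normalizer_eq_top (H := V)).ge (Subgroup.mem_top s))]
  have hsplit : ∀ w ∈ W, ∃ z ∈ ZJ, ∃ v ∈ V, z * v = w := fun w hw =>
    Subgroup.mem_sup_of_normal_right.1 hw
  -- `P ∩ B` centralizes `W`
  have hπW : ∀ x ∈ P, x ∈ B → ∀ w ∈ W, x * w = w * x := by
    intro x hx hxB w hw
    obtain ⟨z, hz, v, hv, rfl⟩ := hsplit w hw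
    rw [← mul_assoc, ← Subgroup.mem_centralizer_iff.1 hxB.2 z hz, mul_assoc, hVc x hx v hv, mul_assoc]
  have hBdec : ∀ b ∈ B, ∃ j ∈ J, ∃ x ∈ P, x ∈ B ∧ j * x = b := by
    intro b hb
    obtain ⟨j, hj, x, hx, hjx⟩ := Subgroup.mem_sup_of_normal_right.1 (hSJP (hBS hb))
    refine ⟨j, hj, x, hx, ?_, hjx⟩
    have e : x = j⁻¹ * b := by rw [← hjx]; group
    rw [e]
    exact mul_mem (inv_mem (J_le_B S hj)) hb
  haveI hNWn : (relC W V).Normal := relC_normal W V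
  have hWV : ∀ g : G, ∀ w ∈ W, g * w * g⁻¹ * w⁻¹ ∈ V := by
    have htop : relC W V = ⊤ := h.eq_top_of_B_le hNWn fun b hb => by
      obtain ⟨j, hj, x, hx, hxB, rfl⟩ := hBdec b hb
      refine mul_mem (fun w hw => hJN hj w (hWY hw)) fun w hw => ?_
      rw [hπW x hx hxB w hw]; simp
    exact fun g => htop.ge (Subgroup.mem_top g)
  -- `[P, W]` is central
  have hF2 : ∀ x ∈ P, ∀ w ∈ W, ∀ g : G,
      g * (x * w * x⁻¹ * w⁻¹) = x * w * x⁻¹ * w⁻¹ * g := by
    set D : Set G := {d | ∃ x ∈ P, ∃ w ∈ W, d = x * w * x⁻¹ * w⁻¹}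
    have hDn : (Subgroup.centralizer D).Normal := centralizer_set_normal D (by
      rintro _ ⟨x, hx, w, hw, rfl⟩ k
      exact ⟨k * x * k⁻¹, hPn.conj_mem x hx k, k * w * k⁻¹, hWn.conj_mem w hw k, by group⟩)
    have htop := h.eq_top_of_B_le hDn (hBS.trans (hSJP.trans (sup_le ?_ ?_)))
    · exact fun x hx w hw g => (Subgroup.mem_centralizer_iff.1 (htop.ge (Subgroup.mem_top g))
        _ ⟨x, hx, w, hw, rfl⟩).symm
    · intro j hj
      refine Subgroup.mem_centralizer_iff.2 ?_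
      rintro _ ⟨x, hx, w, hw, rfl⟩
      obtain ⟨z, hz, v, hv, rfl⟩ := hsplit w hw
      have e : x * (z * v) * x⁻¹ * (z * v)⁻¹ = x * z * x⁻¹ * z⁻¹ := by
        calc x * (z * v) * x⁻¹ * (z * v)⁻¹ = x * z * (v * x⁻¹) * v⁻¹ * z⁻¹ := by group
          _ = x * z * (x⁻¹ * v) * v⁻¹ * z⁻¹ := by rw [hVc x⁻¹ (inv_mem hx) v hv]
          _ = x * z * x⁻¹ * z⁻¹ := by group
      rw [e]
      exact (hZc j hj _ (mul_mem ((Subgroup.mem_normalizer_iff.1 (hSZ (hPS hx)) z).1 hz)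
        (inv_mem hz))).symm
    · intro y hy
      refine Subgroup.mem_centralizer_iff.2 ?_
      rintro _ ⟨x, hx, w, hw, rfl⟩
      exact (hVc y hy _ (hWV x w hw)).symm
  -- the action on `W`
  set θ : G →* MulAut W := MulAut.conjNormal with hθ
  have hθa : ∀ g : G, ∀ w : W, ((θ g w : W) : G) = g * w * g⁻¹ := fun g w =>
    MulAut.conjNormal_apply g w
  have hθk : ∀ g : G, θ g = 1 ↔ ∀ w ∈ W, g * w * g⁻¹ = w := by
    intro g
    refine ⟨fun e w hw => ?_, fun e => MulEquiv.ext fun w => Subtype.ext ((hθa g w).trans (e w w.2))⟩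
    have e' := congrArg Subtype.val (DFunLike.congr_fun e (⟨w, hw⟩ : W))
    exact (hθa g ⟨w, hw⟩).symm.trans e'
  have hker : ∀ c ∈ f.ker, ∀ v ∈ V, c * v * c⁻¹ = v := by
    intro c hc v hv
    rw [hfk] at hc
    rw [← Subgroup.mem_centralizer_iff.1 hc v hv, mul_inv_cancel_right]
  have hpow : ∀ c ∈ f.ker, θ c ^ p = 1 := by
    intro c hc
    rw [← map_pow, hθk]
    intro w hw
    obtain ⟨u, hu, hue⟩ : ∃ u ∈ V, c * w * c⁻¹ = u * w :=
      ⟨_, hWV c w hw, by group⟩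
    have hk : ∀ k : ℕ, c ^ k * w * (c ^ k)⁻¹ = u ^ k * w := by
      intro k
      induction k with
      | zero => simp
      | succ k ih =>
        calc c ^ (k + 1) * w * (c ^ (k + 1))⁻¹ = c * (c ^ k * w * (c ^ k)⁻¹) * c⁻¹ := by
              rw [pow_succ']; group
          _ = c * (u ^ k) * c⁻¹ * (c * w * c⁻¹) := by rw [ih]; group
          _ = u ^ k * (u * w) := by rw [hker c hc _ (pow_mem hu k), hue]
          _ = u ^ (k + 1) * w := by rw [pow_succ]; group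
    rw [hk, hVe.2 u hu, one_mul]
  have hCP : ∀ c ∈ f.ker, ∃ x ∈ P, θ c = θ x := by
    intro c hc
    set N := (θ.ker ⊓ f.ker) ⊔ P with hN
    have hcN : c ∈ N := by
      obtain ⟨a, m, hm, ha⟩ := Nat.exists_eq_pow_mul_and_not_dvd
        (orderOf_pos c).ne' p (Fact.out : p.Prime).ne_one
      have hcm : c ^ m ∈ P := by
        have hz : IsPGroup p (Subgroup.zpowers (c ^ m)) := by
          rintro ⟨_, k, rfl⟩
          refine ⟨a, Subtype.ext ?_⟩
          show ((c ^ m) ^ k) ^ p ^ a = 1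
          rw [← zpow_natCast ((c ^ m) ^ k), zpow_comm, zpow_natCast, ← pow_mul, mul_comm m, ← ha,
            pow_orderOf_eq_one, one_zpow]
        obtain ⟨S₁, hS₁⟩ := hz.exists_le_sylow
        obtain ⟨g, hg⟩ := MulAction.exists_smul_eq G S₁ S
        have h1 : g * c ^ m * g⁻¹ ∈ (S : Subgroup G) := by
          rw [← hg, Sylow.coe_subgroup_smul]
          exact ⟨_, hS₁ (Subgroup.mem_zpowers _), rfl⟩
        have h2 : g * c ^ m * g⁻¹ ∈ f.ker := (MonoidHom.normal_ker f).conj_mem _ (pow_mem hc m) g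
        rw [hfk] at h2
        have h3 : g * c ^ m * g⁻¹ ∈ P := h.inf_cent_V.le ⟨h1, h2⟩
        simpa [mul_assoc] using hPn.conj_mem _ h3 g⁻¹
      have hcp : c ^ p ∈ N :=
        Subgroup.mem_sup_left ⟨MonoidHom.mem_ker.2 (by rw [map_pow]; exact hpow c hc), pow_mem hc p⟩
      have hgcd : Nat.gcd m p = 1 :=
        Nat.Coprime.symm ((Fact.out : p.Prime).coprime_iff_not_dvd.2 hm)
      have e : c = (c ^ m) ^ Nat.gcdA m p * (c ^ p) ^ Nat.gcdB m p := by
        rw [← zpow_natCast, ← zpow_mul, ← zpow_natCast, ← zpow_mul, ← zpow_add, ← Nat.gcd_eq_gcd_ab,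
          hgcd, Nat.cast_one, zpow_one]
      rw [e]
      exact mul_mem (zpow_mem (Subgroup.mem_sup_right hcm) _) (zpow_mem hcp _)
    obtain ⟨k, hk, x, hx, hkx⟩ := Subgroup.mem_sup_of_normal_right.1 hcN
    exact ⟨x, hx, by rw [← hkx, map_mul, MonoidHom.mem_ker.1 hk.1, one_mul]⟩
  have hcc : ∀ c ∈ f.ker, ∀ g : G, θ c * θ g = θ g * θ c := by
    intro c hc g
    refine MulEquiv.ext fun w => Subtype.ext ?_
    rw [MulAut.mul_apply, MulAut.mul_apply, hθa, hθa, hθa, hθa]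
    obtain ⟨x, hx, hcx⟩ := hCP c hc
    set u := g * (w : G) * g⁻¹ * (w : G)⁻¹ with hu
    have e1 : c * (w : G) * c⁻¹ = x * w * x⁻¹ := by rw [← hθa, hcx, hθa]
    set d := x * (w : G) * x⁻¹ * (w : G)⁻¹ with hd
    have e2 : c * (w : G) * c⁻¹ = d * w := by rw [e1, hd]; group
    have e3 : g * (w : G) * g⁻¹ = u * w := by rw [hu]; group
    calc c * (g * (w : G) * g⁻¹) * c⁻¹ = c * u * c⁻¹ * (c * w * c⁻¹) := by rw [e3]; group
      _ = u * (d * w) := by rw [hker c hc u (hWV g w w.2), e2]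
      _ = d * u * w := by rw [← mul_assoc, hF2 x hx w w.2 u]
      _ = d * (g * w * g⁻¹) := by rw [e3, mul_assoc]
      _ = g * (c * w * c⁻¹) * g⁻¹ := by
          rw [e2, ← mul_assoc g, hF2 x hx w w.2 g, hd]; group
  -- an involution
  obtain ⟨h₀, hh₀⟩ := hfs (-1)
  have hpodd : Odd p := (Fact.out : p.Prime).odd_of_ne_two h.odd
  set τ := h₀ ^ p with hτdef
  have hτf : f τ = -1 := by rw [hτdef, map_pow, hh₀, hpodd.neg_one_pow]
  have hτ2 : θ τ * θ τ = 1 := by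
    have h1 : h₀ * h₀ ∈ f.ker := by
      rw [MonoidHom.mem_ker, map_mul, hh₀, neg_mul_neg, one_mul]
    have h2 := hpow _ h1
    rw [map_mul, (Commute.refl (θ h₀)).mul_pow] at h2
    rw [hτdef, map_pow]
    exact h2
  have hτc : ∀ g : G, θ g * θ τ = θ τ * θ g := by
    intro g
    set c := g * τ * g⁻¹ * τ⁻¹ with hc
    have hcK : c ∈ f.ker := by
      rw [MonoidHom.mem_ker, hc, map_mul, map_mul, map_mul, map_inv, map_inv, hτf]
      simp [mul_neg, neg_mul]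
    set a := θ c with ha
    have h1 : a * θ τ = θ τ * a := hcc c hcK τ
    have e : θ g * θ τ * (θ g)⁻¹ = a * θ τ := by
      rw [ha, hc, map_mul, map_mul, map_mul, map_inv, map_inv]; group
    have h2 : a * a = 1 := by
      calc a * a = a * a * (θ τ * θ τ) := by rw [hτ2, mul_one]
        _ = a * (a * θ τ) * θ τ := by group
        _ = a * (θ τ * a) * θ τ := by rw [h1]
        _ = (a * θ τ) * (a * θ τ) := by group
        _ = θ g * (θ τ * θ τ) * (θ g)⁻¹ := by rw [← e]; group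
        _ = 1 := by rw [hτ2, mul_one, mul_inv_cancel]
    have h3 : a = 1 := by
      obtain ⟨k, hk⟩ := hpodd
      have h4 : a ^ p = 1 := hpow c hcK
      rwa [hk, pow_succ, pow_mul, sq, h2, one_pow, one_mul] at h4
    rw [h3, one_mul] at e
    exact mul_inv_eq_iff_eq_mul.1 e
  have hτg : ∀ g : G, ∀ w ∈ W, g * (τ * w * τ⁻¹) * g⁻¹ = τ * (g * w * g⁻¹) * τ⁻¹ := by
    intro g w hw
    have e := congrArg Subtype.val (DFunLike.congr_fun (hτc g) (⟨w, hw⟩ : W))
    rwa [MulAut.mul_apply, MulAut.mul_apply, hθa, hθa, hθa, hθa] at e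
  have hττ : ∀ w ∈ W, τ * (τ * w * τ⁻¹) * τ⁻¹ = w := by
    intro w hw
    have e := congrArg Subtype.val (DFunLike.congr_fun hτ2 (⟨w, hw⟩ : W))
    rwa [MulAut.mul_apply, hθa, hθa] at e
  -- `w · w^τ` is central
  have hU : ∀ w ∈ W, ∀ g : G, g * (w * (τ * w * τ⁻¹)) = w * (τ * w * τ⁻¹) * g := by
    set D : Set G := {d | ∃ w ∈ W, d = w * (τ * w * τ⁻¹)}
    have hDn : (Subgroup.centralizer D).Normal := centralizer_set_normal D (by
      rintro _ ⟨w, hw, rfl⟩ k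
      refine ⟨k * w * k⁻¹, hWn.conj_mem w hw k, ?_⟩
      rw [← hτg k w hw]; group)
    have htop := h.eq_top_of_B_le hDn fun b hb => ?_
    · exact fun w hw g => (Subgroup.mem_centralizer_iff.1 (htop.ge (Subgroup.mem_top g))
        _ ⟨w, hw, rfl⟩).symm
    obtain ⟨j, hj, x, hx, hxB, rfl⟩ := hBdec b hb
    refine mul_mem (Subgroup.mem_centralizer_iff.2 ?_) (Subgroup.mem_centralizer_iff.2 ?_)
    · rintro _ ⟨w, hw, rfl⟩
      obtain ⟨z, hz, v, hv, rfl⟩ := hsplit w hw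
      have hzW : z ∈ W := Subgroup.mem_sup_left hz
      have hvW : v ∈ W := Subgroup.mem_sup_right hv
      have hv' : τ * v * τ⁻¹ ∈ V := hVn.conj_mem v hv τ
      have hz' : τ * z * τ⁻¹ ∈ W := hWn.conj_mem z hzW τ
      have c1 : Commute j z := hZc j hj z hz
      have c2 : Commute j (τ * z * τ⁻¹) := by
        have e := hτg j z hzW
        rw [show j * z * j⁻¹ = z by rw [hZc j hj z hz, mul_inv_cancel_right]] at e
        exact mul_inv_eq_iff_eq_mul.1 e
      have c3 : Commute j (v * (τ * v * τ⁻¹)) := by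
        refine hτfix τ hτf _ (mul_mem hv hv') ?_ j hj
        rw [← mul_inv_eq_iff_eq_mul]
        calc τ * (v * (τ * v * τ⁻¹)) * τ⁻¹ = τ * v * τ⁻¹ * (τ * (τ * v * τ⁻¹) * τ⁻¹) := by group
          _ = τ * v * τ⁻¹ * v := by rw [hττ v hvW]
          _ = v * (τ * v * τ⁻¹) := hWcomm _ (Subgroup.mem_sup_right hv') _ hvW
      have e : z * v * (τ * (z * v) * τ⁻¹) = z * (τ * z * τ⁻¹) * (v * (τ * v * τ⁻¹)) := by
        calc z * v * (τ * (z * v) * τ⁻¹) = z * (v * (τ * z * τ⁻¹)) * (τ * v * τ⁻¹) := by group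
          _ = z * ((τ * z * τ⁻¹) * v) * (τ * v * τ⁻¹) := by rw [hWcomm v hvW _ hz']
          _ = z * (τ * z * τ⁻¹) * (v * (τ * v * τ⁻¹)) := by group
      rw [e]
      exact ((c1.mul_right c2).mul_right c3).symm.eq
    · rintro _ ⟨w, hw, rfl⟩
      exact (hπW x hx hxB _ (mul_mem hw (hWn.conj_mem w hw τ))).symm
  -- `P` centralizes `ZJ`
  have hPW : ∀ x ∈ P, ∀ w ∈ W, Commute x w := by
    intro x hx w hw
    have ha : τ * w * τ⁻¹ ∈ W := hWn.conj_mem w hw τ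
    have c1 : Commute x (w * (τ * w * τ⁻¹)) := hU w hw x
    have c2 : Commute x ((τ * w * τ⁻¹ * w⁻¹)⁻¹) := hVc x hx _ (inv_mem (hWV τ w hw))
    have e : w * (τ * w * τ⁻¹) * (τ * w * τ⁻¹ * w⁻¹)⁻¹ = w ^ 2 := by
      calc w * (τ * w * τ⁻¹) * (τ * w * τ⁻¹ * w⁻¹)⁻¹ =
          w * ((τ * w * τ⁻¹) * w) * (τ * w * τ⁻¹)⁻¹ := by group
        _ = w * (w * (τ * w * τ⁻¹)) * (τ * w * τ⁻¹)⁻¹ := by rw [hWcomm _ ha w hw]
        _ = w ^ 2 := by rw [sq]; group
    have c3 : Commute x (w ^ 2) := e ▸ c1.mul_right c2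
    obtain ⟨k, hk⟩ := hpodd
    have h4 : (w ^ 2) ^ (k + 1) = w := by
      rw [← pow_mul, show 2 * (k + 1) = p + 1 by omega, pow_succ, hWe.2 w hw, one_mul]
    exact h4 ▸ c3.pow_right (k + 1)
  refine le_antisymm hBS (le_inf le_rfl (hSJP.trans (sup_le ?_ ?_)))
  · exact fun j hj => Subgroup.mem_centralizer_iff.2 fun z hz => (hZc j hj z hz).symm
  · exact fun x hx => Subgroup.mem_centralizer_iff.2 fun z hz =>
      ((hPW x hx z (Subgroup.mem_sup_left hz)).eq).symm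

end Crit

end CfsgLib.FocalOdd
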