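import Cfsg.Agent.Lib.FocalOdd.Frame
import Cfsg.Agent.Lib.FusionControl.OffenderTorus

/-!
# No elementary abelian group beats `|V|`, and minimal exact ones have frames
-/

set_option autoImplicit false
set_option linter.unusedSectionVars false

namespace CfsgLib.FocalOdd

open Matrix CfsgLib.LocalEven.Pair CfsgLib.OffenderPair
open scoped MatrixGroups

variable {P : Type*} [Group P] {V : Type*} [AddCommGroup V] {ρ : P →* AddMonoid.End V}
  {p : ℕ} [Fact p.Prime]

/-- An offender of measure above all its nontrivial proper subgroups acts quadratically. -/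
theorem quad_of_minimal [Finite P] [Finite V] (hV : ∀ v : V, p • v = 0) (_hρ : Function.Injective ρ)
    {B : Subgroup P} (hB : Elem p B) (hoff : Nat.card V ≤ meas ρ B)
    (hmin : ∀ X, X ≤ B → X ≠ ⊥ → X ≠ B → meas ρ X < meas ρ B) :
    ∀ a ∈ B, ∀ b ∈ B, ∀ v, ρ b (ρ a v - v) = ρ a v - v := by
  classical
  have hBp : IsPGroup p B := hB.isP
  have hBc := hB.2
  -- Thompson replacement
  have hquad : ∀ a ∈ B, ∀ b ∈ B, ∀ v, ρ b (ρ a v - v) = ρ a v - v := by
    by_contra hnq
    push Not at hnq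
    obtain ⟨a₀, ha₀, b₀, hb₀, v, hv⟩ := hnq
    let B' : Subgroup P :=
      { carrier := {b | b ∈ B ∧ ∀ a ∈ B, ρ b (ρ a v - v) = ρ a v - v}
        one_mem' := ⟨one_mem _, fun a _ => act_one ρ _⟩
        mul_mem' := fun {x y} hx hy => ⟨mul_mem hx.1 hy.1, fun a ha => by
          rw [act_mul, hy.2 a ha, hx.2 a ha]⟩
        inv_mem' := fun {x} hx => ⟨inv_mem hx.1, fun a ha => by
          conv_lhs => rw [← hx.2 a ha]
          exact act_inv_act ρ x _⟩ }
    have hB'le : B' ≤ B := fun x hx => hx.1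
    let U : AddSubgroup V := AddSubgroup.closure {y | ∃ a ∈ B, ρ a v - v = y} ⊔ fix ρ B
    have hUfix : U ≤ fix ρ B' := by
      refine sup_le ((AddSubgroup.closure_le _).2 ?_) (fix_anti ρ hB'le)
      rintro _ ⟨a, ha, rfl⟩ b hb
      exact hb.2 a ha
    let δ : B → U ⧸ (fix ρ B).addSubgroupOf U := fun b => QuotientAddGroup.mk
      ⟨ρ b v - v, AddSubgroup.mem_sup_left (AddSubgroup.subset_closure ⟨b, b.2, rfl⟩)⟩
    have hδ : ∀ a b : B, δ a = δ b → (a : P)⁻¹ * b ∈ B' := by
      intro a b h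
      have h1 : -(ρ (a : P) v - v) + (ρ (b : P) v - v) ∈ fix ρ B :=
        (QuotientAddGroup.eq (s := (fix ρ B).addSubgroupOf U)).1 h
      set c : P := (a : P)⁻¹ * b with hc
      have hcB : c ∈ B := mul_mem (inv_mem a.2) b.2
      have h2 : -(ρ (a : P) v - v) + (ρ (b : P) v - v) = ρ (a : P) (ρ c v - v) := by
        rw [map_sub, hc, act_mul, act_act_inv]
        abel
      have h3 : ρ c v - v ∈ fix ρ B := by
        intro d hd
        apply act_injective ρ (a : P)
        rw [act_comm (hBc _ a.2 _ hd), ← h2]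
        exact h1 d hd
      refine ⟨hcB, fun d hd => ?_⟩
      have h4 : ρ d (ρ c v - v) = ρ c v - v := h3 d hd
      rw [map_sub, act_comm (hBc _ hd _ hcB)] at h4
      rw [map_sub]
      have h5 := h4
      rw [sub_eq_sub_iff_add_eq_add] at h5 ⊢
      rw [h5]
      abel
    have hcard : Nat.card B ≤ Nat.card B' * Nat.card (U ⧸ (fix ρ B).addSubgroupOf U) := by
      rw [mul_comm, ← Nat.card_prod]
      let f : B → (U ⧸ (fix ρ B).addSubgroupOf U) × B' := fun b =>
        (δ b, ⟨((Classical.choose (⟨b, rfl⟩ : ∃ a, δ a = δ b) : B) : P)⁻¹ * b,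
          hδ _ _ (Classical.choose_spec (⟨b, rfl⟩ : ∃ a, δ a = δ b))⟩)
      refine Nat.card_le_card_of_injective f fun x y h => ?_
      obtain ⟨h1, h2⟩ := Prod.ext_iff.1 h
      have h2' := congrArg Subtype.val h2
      simp only [f] at h1 h2'
      have hch : ∀ {q q' : U ⧸ (fix ρ B).addSubgroupOf U} (hq : ∃ a, δ a = q) (hq' : ∃ a, δ a = q'),
          q = q' → Classical.choose hq = Classical.choose hq' := by
        rintro q q' hq hq' rfl
        rfl
      rw [hch ⟨x, rfl⟩ ⟨y, rfl⟩ h1] at h2'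
      exact Subtype.ext (mul_left_cancel h2')
    have hle : meas ρ B ≤ Nat.card B' * Nat.card U := by
      rw [meas]
      refine (Nat.mul_le_mul_right _ hcard).trans (le_of_eq ?_)
      rw [mul_assoc]
      congr 1
      rw [AddSubgroup.card_eq_card_quotient_mul_card_addSubgroup ((fix ρ B).addSubgroupOf U)]
      congr 1
      exact Nat.card_congr (AddSubgroup.addSubgroupOfEquivOfLe (le_sup_right : fix ρ B ≤ U)).symm.toEquiv
    by_cases hB' : B' = ⊥
    · -- then `V = [v, B] + C_V(B)`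
      have hUtop : U = ⊤ := AddSubgroup.eq_top_of_le_card _ (by
        have h1 := hoff.trans hle
        rwa [hB', Subgroup.card_bot, one_mul] at h1)
      let D : AddSubgroup V := AddSubgroup.closure {y | ∃ a ∈ B, ∃ w, ρ a w - w = y}
      have hVD : (⊤ : AddSubgroup V) ≤ D ⊔ fix ρ B := by
        rw [← hUtop]
        refine sup_le_sup_right ((AddSubgroup.closure_le _).2 ?_) _
        rintro _ ⟨a, ha, rfl⟩
        exact AddSubgroup.subset_closure ⟨a, ha, v, rfl⟩
      let img : P → AddSubgroup V := fun a => D.map (ρ a - 1 : AddMonoid.End V)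
      have hDimg : D ≤ (B : Set P).toFinite.toFinset.sup img := by
        refine (AddSubgroup.closure_le _).2 ?_
        rintro _ ⟨a, ha, w, rfl⟩
        obtain ⟨d, hd, c, hc, rfl⟩ := AddSubgroup.mem_sup.1 (hVD (AddSubgroup.mem_top w))
        refine Finset.le_sup (f := img) ((B : Set P).toFinite.mem_toFinset.2 ha) ⟨d, hd, ?_⟩
        show ρ a d - d = _
        rw [map_add, hc a ha]
        abel
      have hDinv : ∀ a ∈ B, ∀ d ∈ D, (ρ a - 1) d ∈ D := fun a ha d _ =>
        AddSubgroup.subset_closure ⟨a, ha, d, rfl⟩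
      have key : ∀ s : Finset P, (∀ a ∈ s, a ∈ B) → D ≤ s.sup img → D = ⊥ := by
        intro s
        induction s using Finset.induction_on with
        | empty => exact fun _ h => le_bot_iff.1 (by simpa using h)
        | insert x s hxs ih =>
          intro hs h
          rw [Finset.sup_insert] at h
          refine ih (fun a ha => hs a (Finset.mem_insert_of_mem ha)) ?_
          obtain ⟨n, hn⟩ := isNilpotent_sub_one ρ (m := 1) (fun v => by rw [pow_one]; exact hV v) (b := x) (by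
            obtain ⟨j, hj⟩ := hBp ⟨x, hs x (Finset.mem_insert_self _ _)⟩
            exact ⟨j, congrArg Subtype.val hj⟩)
          have hstable : ∀ d ∈ s.sup img, (ρ x - 1) d ∈ s.sup img := by
            intro d hd
            have : s.sup img ≤ (s.sup img).comap (ρ x - 1 : AddMonoid.End V) := by
              refine Finset.sup_le fun a ha => ?_
              rintro _ ⟨e, he, rfl⟩
              refine Finset.le_sup (f := img) ha ⟨(ρ x - 1) e,
                hDinv x (hs x (Finset.mem_insert_self _ _)) e he, ?_⟩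
              show ρ a (ρ x e - e) - (ρ x e - e) = ρ x (ρ a e - e) - (ρ a e - e)
              rw [map_sub, map_sub, act_comm (hBc _ (hs a (Finset.mem_insert_of_mem ha)) _
                (hs x (Finset.mem_insert_self _ _)))]
              abel
            exact this hd
          have hit : ∀ k : ℕ, D ≤ D.map ((ρ x - 1) ^ k : AddMonoid.End V) ⊔ s.sup img := by
            intro k
            induction k with
            | zero =>
              intro d hd
              exact AddSubgroup.mem_sup_left ⟨d, hd, by rw [pow_zero]; rfl⟩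
            | succ k ihk =>
              refine h.trans (sup_le ?_ le_sup_right)
              rintro _ ⟨d, hd, rfl⟩
              obtain ⟨d₁, ⟨d₂, hd₂, rfl⟩, d₃, hd₃, rfl⟩ := AddSubgroup.mem_sup.1 (ihk hd)
              refine ((map_add (ρ x - 1 : AddMonoid.End V) _ _).symm ▸ AddSubgroup.add_mem_sup ⟨d₂, hd₂, ?_⟩
                (hstable d₃ hd₃))
              rw [pow_succ']
              rfl
          refine (hit n).trans (sup_le ?_ le_rfl)
          rintro _ ⟨d, -, rfl⟩
          rw [hn]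
          exact zero_mem _
      have hD0 := key _ (fun a ha => (B : Set P).toFinite.mem_toFinset.1 ha) hDimg
      have h1 : ρ a₀ v - v ∈ D := AddSubgroup.subset_closure ⟨a₀, ha₀, v, rfl⟩
      rw [hD0, AddSubgroup.mem_bot] at h1
      exact hv (by rw [h1, map_zero])
    · have hne : B' ≠ B := fun h => hv ((h.ge hb₀).2 a₀ ha₀)
      have h1 := hmin B' hB'le hB' hne
      have h2 : Nat.card B' * Nat.card U ≤ meas ρ B' :=
        Nat.mul_le_mul_left _ (Nat.card_le_card_of_injective (fun u : U => (⟨u, hUfix u.2⟩ : fix ρ B'))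
          fun a b h => Subtype.ext (congrArg (fun w : fix ρ B' => (w : V)) h))
      omega
  exact hquad

variable (ρ p) in
/-- Exact offenders. -/
def Exact : Set (Subgroup P) := {X | Elem p X ∧ meas ρ X = Nat.card V}

variable (ρ p) in
/-- The subgroup generated by the exact offenders in `T`. -/
def offJ (T : Subgroup P) : Subgroup P := famJoin (Exact ρ p) T

variable (ρ) in
/-- Pointwise stabilizer. -/
def pstab (W : AddSubgroup V) : Subgroup P where
  carrier := {g | ∀ w ∈ W, ρ g w = w}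
  one_mem' := fun w _ => act_one ρ w
  mul_mem' := fun {a b} ha hb w hw => by rw [act_mul, hb w hw, ha w hw]
  inv_mem' := fun {a} ha w hw => by
    conv_lhs => rw [← ha w hw]
    exact act_inv_act ρ a w

theorem mem_pstab {W : AddSubgroup V} {g : P} : g ∈ pstab ρ W ↔ ∀ w ∈ W, ρ g w = w := Iff.rfl

variable (ρ p) in
/-- The part of `T` fixing what `J` fixes. -/
def offJp (T : Subgroup P) : Subgroup P := T ⊓ pstab ρ (fix ρ (offJ ρ p T))

theorem offJ_le_offJp (T : Subgroup P) : offJ ρ p T ≤ offJp ρ p T :=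
  le_inf (famJoin_le _ _) fun _ hg _ hw => hw _ hg

theorem exact_conj [Finite V] : ∀ X ∈ Exact ρ p, ∀ g : P,
    X.map (MulAut.conj g).toMonoidHom ∈ Exact ρ p :=
  fun X hX g => ⟨hX.1.map _, by rw [meas_map_conj]; exact hX.2⟩

variable (ρ p) in
/-- The hypotheses with uniqueness over the Sylow subgroup. -/
structure HypT (T : Sylow p P) (M : Subgroup P) : Prop where
  odd : p ≠ 2
  ppos : ∀ v : V, p • v = 0
  faithful : ∀ g : P, (∀ v, ρ g v = v) → g = 1
  core : ∀ N : Subgroup P, N.Normal → IsPGroup p N → N = ⊥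
  Mne : M ≠ ⊤
  off : ∃ B : Subgroup P, B ≤ (T : Subgroup P) ∧ B ≠ ⊥ ∧ Elem p B ∧ Nat.card V ≤ meas ρ B
  vec : ∃ z, z ∈ fix ρ (T : Subgroup P) ∧ z ∉ fix ρ (⊤ : Subgroup P)
  huniqT : ∀ R : Subgroup P, (T : Subgroup P) ≤ R → R ≠ ⊤ → R ≤ M

variable (ρ p) in
/-- The hypotheses. -/
structure Hyp (T : Sylow p P) (M : Subgroup P) : Prop extends HypT ρ p T M where
  huniq : ∀ R : Subgroup P, offJp ρ p (T : Subgroup P) ≤ R → R ≠ ⊤ → R ≤ M

/-- A minimal exact offender. -/
structure IsMin (ρ : P →* AddMonoid.End V) (p : ℕ) (C : Subgroup P) : Prop where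
  elem : Elem p C
  ne_bot : C ≠ ⊥
  eq : meas ρ C = Nat.card V
  lt : ∀ X, X ≤ C → X ≠ ⊥ → X ≠ C → meas ρ X < Nat.card V

theorem exists_conj_le [Finite P] {M X : Subgroup P} (T : Sylow p P) (hT : (T : Subgroup P) ≤ M)
    (hX : X ≤ M) (hXp : IsPGroup p X) :
    ∃ m ∈ M, X.map (MulAut.conj m).toMonoidHom ≤ (T : Subgroup P) := by
  obtain ⟨Q, hQ⟩ := (hXp.of_equiv (Subgroup.subgroupOfEquivOfLe hX).symm).exists_le_sylow
  obtain ⟨m, hm⟩ := MulAction.exists_smul_eq M Q (T.subtype hT)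
  refine ⟨m, m.2, ?_⟩
  rintro _ ⟨y, hy, rfl⟩
  have h1 : (⟨y, hX hy⟩ : M) ∈ (Q : Subgroup M) := hQ hy
  have h2 : m * ⟨y, hX hy⟩ * m⁻¹ ∈ ((T.subtype hT : Sylow p M) : Subgroup M) := by
    rw [← hm, Sylow.coe_subgroup_smul]
    exact ⟨_, h1, rfl⟩
  exact h2

namespace HypT

variable [Finite P] [Finite V] {T : Sylow p P} {M : Subgroup P}

theorem ρ_inj (h : HypT ρ p T M) : Function.Injective ρ :=
  (injective_iff_map_eq_one ρ).2 fun g hg => h.faithful g fun v => by rw [hg]; rfl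

theorem T_ne_bot (h : HypT ρ p T M) : (T : Subgroup P) ≠ ⊥ := by
  obtain ⟨B, hB, hB1, -⟩ := h.off
  exact fun he => hB1 (le_bot_iff.1 (hB.trans he.le))

theorem le_M_of_p (h : HypT ρ p T M) {R : Subgroup P} (hJ : (T : Subgroup P) ≤ R)
    (hR : IsPGroup p R) : R ≤ M := by
  refine h.huniqT R hJ fun he => h.T_ne_bot (le_bot_iff.1 ?_)
  rw [← h.core R (he ▸ inferInstance) hR, he]
  exact le_top

theorem T_le (h : HypT ρ p T M) : (T : Subgroup P) ≤ M := h.le_M_of_p le_rfl T.2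

theorem normalizer_le (h : HypT ρ p T M) {X : Subgroup P} (hX : IsPGroup p X) (hX1 : X ≠ ⊥)
    (hJ : (T : Subgroup P) ≤ Subgroup.normalizer (X : Set P)) :
    Subgroup.normalizer (X : Set P) ≤ M :=
  h.huniqT _ hJ fun he => hX1 (h.core X (Subgroup.normalizer_eq_top_iff.1 he) hX)

set_option maxHeartbeats 800000 in
/-- An offender in `T` above its proper subgroups is exact and has a conjugate in `T` with a frame
not inside `M`. -/
theorem exists_frame (h : HypT ρ p T M) {B : Subgroup P} (hBT : B ≤ (T : Subgroup P)) (hB1 : B ≠ ⊥)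
    (hB : Elem p B) (hoff : Nat.card V ≤ meas ρ B)
    (hmin : ∀ X, X ≤ B → X ≠ ⊥ → X ≠ B → meas ρ X < meas ρ B) :
    meas ρ B = Nat.card V ∧ ∃ g : P, B.map (MulAut.conj g).toMonoidHom ≤ (T : Subgroup P) ∧
      ∃ fr : Frame ρ p (B.map (MulAut.conj g).toMonoidHom), ¬ fr.H ≤ M := by
  classical
  have hquad := quad_of_minimal h.ppos h.ρ_inj hB hoff hmin
  let ℱ : Set (Subgroup P) := {X | ∃ g : P, X = B.map (MulAut.conj g).toMonoidHom}
  have hBℱ : B ∈ ℱ := ⟨1, by ext x; simp⟩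
  have hℱ : ∀ X ∈ ℱ, ∀ g : P, X.map (MulAut.conj g).toMonoidHom ∈ ℱ := by
    rintro _ ⟨g₁, rfl⟩ g
    refine ⟨g * g₁, ?_⟩
    rw [Subgroup.map_map]
    congr 1
    ext x
    simp [mul_assoc]
  have hN : Subgroup.normalizer (famJoin ℱ (T : Subgroup P) : Set P) ≤ M :=
    h.normalizer_le (T.2.to_le (famJoin_le _ _))
      (fun he => hB1 (le_bot_iff.1 ((le_famJoin hBℱ hBT).trans he.le)))
      (Subgroup.le_normalizer.trans (normalizer_le_normalizer_famJoin hℱ _))
  obtain ⟨L, A₀, ⟨g₀, rfl⟩, hAL, hPT⟩ := exists_pair h.Mne T h.T_le ℱ hℱ hN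
  have hLM : ¬ L ≤ M := fun hle => hPT.ne_top (Subgroup.subgroupOf_eq_top.2 hle)
  obtain ⟨S, hAS, hSM, hSn⟩ := hPT.exists_sylow
  have hSP : (S : Subgroup L).map L.subtype ≤ M := by
    rintro _ ⟨s, hs, rfl⟩
    exact hSM hs
  obtain ⟨m, hm, hmT⟩ := exists_conj_le T h.T_le hSP (S.2.map L.subtype)
  obtain ⟨z, hz, hz0⟩ := h.vec
  -- a vector for `L`
  set z' : V := ρ m⁻¹ z with hz'
  have hz'S : z' ∈ fix (ρ.comp L.subtype) (S : Subgroup L) := by
    intro s hs
    have h1 := hz _ (hmT ⟨_, ⟨s, hs, rfl⟩, rfl⟩)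
    show ρ (s : P) z' = z'
    apply act_injective ρ m
    rw [hz', act_act_inv, ← act_mul, ← act_mul]
    exact h1
  have hz'0 : z' ∉ fix (ρ.comp L.subtype) ⊤ := by
    intro hL
    have hL' : L ≤ stab ρ z' := fun x hx => hL ⟨x, hx⟩ (Subgroup.mem_top _)
    have hJ : ((T : Subgroup P)).map (MulAut.conj m⁻¹).toMonoidHom ≤ stab ρ z' := by
      rintro _ ⟨x, hx, rfl⟩
      show ρ (m⁻¹ * x * m⁻¹⁻¹) z' = z'
      rw [hz', inv_inv, act_mul, act_mul, act_act_inv, hz x hx]
    by_cases ht : stab ρ z' = ⊤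
    · refine hz0 fun x _ => ?_
      have h1 : m⁻¹ * x * m ∈ stab ρ z' := ht.ge (Subgroup.mem_top _)
      have h2 : ρ (m⁻¹ * x * m) z' = z' := h1
      rw [hz', act_mul, act_mul, act_act_inv] at h2
      exact act_injective ρ _ h2
    · have hJ' : (T : Subgroup P) ≤ (stab ρ z').map (MulAut.conj m).toMonoidHom := by
        intro x hx
        refine ⟨m⁻¹ * x * m, ?_, by simp [mul_assoc]⟩
        exact hJ ⟨x, hx, by simp⟩
      have hne : (stab ρ z').map (MulAut.conj m).toMonoidHom ≠ ⊤ := fun he => ht (by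
        have h1 := congrArg (Subgroup.comap (MulAut.conj m).toMonoidHom) he
        rwa [Subgroup.comap_map_eq_self_of_injective (MulAut.conj m).injective,
          Subgroup.comap_top] at h1)
      have hle := h.huniqT _ hJ' hne
      refine hLM fun x hx => ?_
      have h1 : m * x * m⁻¹ ∈ M := hle ⟨x, hL' hx, rfl⟩
      have h2 := mul_mem (mul_mem (inv_mem hm) h1) hm
      simpa [mul_assoc] using h2
  set A := B.map (MulAut.conj g₀).toMonoidHom with hAdef
  set AL := A.subgroupOf L with hALdef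
  have hAe : Elem p A := hB.map _
  have hmap : AL.map L.subtype = A := by
    rw [hALdef, Subgroup.subgroupOf_map_subtype, inf_eq_left.2 hAL]
  have hcA : Nat.card AL = Nat.card A := Nat.card_congr (Subgroup.subgroupOfEquivOfLe hAL).toEquiv
  have hmA : meas (ρ.comp L.subtype) AL = meas ρ B := by
    rw [meas_comp_subtype, hmap, hAdef, meas_map_conj]
  have hquad' : ∀ a ∈ AL, ∀ a' ∈ AL, ∀ v,
      (ρ.comp L.subtype) a' ((ρ.comp L.subtype) a v - v) = (ρ.comp L.subtype) a v - v := by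
    intro a ha a' ha' v
    obtain ⟨b, hb, hb'⟩ := (ha : (a : P) ∈ A)
    obtain ⟨c, hc, hc'⟩ := (ha' : (a' : P) ∈ A)
    show ρ (a' : P) (ρ (a : P) v - v) = ρ (a : P) v - v
    have hb'' : g₀ * b * g₀⁻¹ = (a : P) := hb'
    have hc'' : g₀ * c * g₀⁻¹ = (a' : P) := hc'
    rw [← hb'', ← hc'']
    have h1 := congrArg (ρ g₀) (hquad b hb c hc (ρ g₀⁻¹ v))
    simp only [map_sub, act_mul, act_act_inv, act_inv_act] at h1 ⊢
    exact h1
  have hoff' : Nat.card V ≤ Nat.card AL * Nat.card ↥(fix (ρ.comp L.subtype) AL) := by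
    show Nat.card V ≤ meas _ AL
    rw [hmA]; exact hoff
  have hstrict : ∀ A' : Subgroup L, A' ≤ AL → A' ≠ ⊥ → A' ≠ AL →
      meas (ρ.comp L.subtype) A' < meas (ρ.comp L.subtype) AL := by
    intro A' h1 h2 h3
    rw [meas_comp_subtype, hmA]
    set X := A'.map L.subtype with hX
    set Y := X.map (MulAut.conj g₀⁻¹).toMonoidHom with hY
    have hYB : Y ≤ B := by
      rintro _ ⟨_, ⟨x, hx, rfl⟩, rfl⟩
      obtain ⟨b, hb, hbx⟩ := (h1 hx : (x : P) ∈ A)
      have hb'' : g₀ * b * g₀⁻¹ = (x : P) := hbx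
      show g₀⁻¹ * (x : P) * g₀⁻¹⁻¹ ∈ B
      rw [← hb'']
      simpa [mul_assoc] using hb
    rw [← meas_map_conj ρ X g₀⁻¹]
    refine hmin Y hYB (fun he => h2 ?_) (fun he => h3 ?_)
    · exact (Subgroup.map_eq_bot_iff_of_injective _ L.subtype_injective).1
        ((Subgroup.map_eq_bot_iff_of_injective _ (MulAut.conj g₀⁻¹).injective).1 he)
    · refine Subgroup.eq_of_le_of_card_ge h1 (le_of_eq ?_)
      rw [hcA, hAdef, Subgroup.card_map_of_injective (MulAut.conj g₀).injective, ← he, hY,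
        Subgroup.card_map_of_injective (MulAut.conj g₀⁻¹).injective, hX,
        Subgroup.card_map_of_injective L.subtype_injective]
  have hA1 : AL ≠ ⊥ := fun he => hPT.notNormal ⊥ inferInstance IsPGroup.of_bot he.le
  obtain ⟨-, F, iF, iFt, hcF, e, ψ, hψ⟩ := exists_SL2_of_offender (p := p) (ρ.comp L.subtype)
    (A := AL) (M := M.subgroupOf L) S hSn hPT.isCoatom hSM
    (fun R hR hRt => hPT.cover R (hAS.trans hR) hRt) hA1 hAS h.ppos
    (fun x hx => Subtype.ext (h.faithful _ hx)) hquad' hoff' hstrict (fun x hx => hPT.gen hx)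
    hz'S hz'0
  -- normalize the coordinates
  have hv0 : ψ (z' : V ⧸ fix (ρ.comp L.subtype) ⊤) ≠ 0 := fun h0 =>
    hz'0 ((QuotientAddGroup.eq_zero_iff z').1 (ψ.injective (by rw [h0, map_zero])))
  obtain ⟨c, hc⟩ := exists_mulVec_eq _ hv0
  let φ : L ≃* SpecialLinearGroup (Fin 2) F := e.trans (MulAut.conj c⁻¹)
  let χ : V →+ (Fin 2 → F) := AddMonoidHom.mk'
    (fun w => ((c⁻¹ : SpecialLinearGroup (Fin 2) F) : Matrix (Fin 2) (Fin 2) F) *ᵥ
      ψ (w : V ⧸ fix (ρ.comp L.subtype) ⊤)) fun a b => by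
        rw [QuotientAddGroup.mk_add, map_add, Matrix.mulVec_add]
  have hχs : Function.Surjective χ := by
    intro x
    obtain ⟨w, hw⟩ := ψ.surjective ((c : Matrix (Fin 2) (Fin 2) F) *ᵥ x)
    obtain ⟨v, rfl⟩ := QuotientAddGroup.mk'_surjective _ w
    refine ⟨v, ?_⟩
    show ((c⁻¹ : SpecialLinearGroup (Fin 2) F) : Matrix (Fin 2) (Fin 2) F) *ᵥ
      ψ (v : V ⧸ fix (ρ.comp L.subtype) ⊤) = x
    rw [show ψ (v : V ⧸ fix (ρ.comp L.subtype) ⊤) = _ from hw, Matrix.mulVec_mulVec,
      ← Matrix.SpecialLinearGroup.coe_mul, inv_mul_cancel, Matrix.SpecialLinearGroup.coe_one,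
      Matrix.one_mulVec]
  have hχ : ∀ (x : L) (v : V), χ (ρ (x : P) v) = (φ x : Matrix (Fin 2) (Fin 2) F) *ᵥ χ v := by
    intro x v
    show _ *ᵥ ψ ((((ρ.comp L.subtype) x v : V)) : V ⧸ fix (ρ.comp L.subtype) ⊤) = _
    rw [hψ]
    simp only [φ, χ, AddMonoidHom.mk'_apply, MulEquiv.trans_apply, MulAut.conj_apply, inv_inv,
      Matrix.mulVec_mulVec, ← Matrix.SpecialLinearGroup.coe_mul, mul_assoc, mul_inv_cancel, mul_one]
  have hχ0 : ∀ v, χ v = 0 → ∀ x ∈ L, ρ x v = v := by
    intro v hv x hx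
    have h1 := congrArg (fun w => (c : Matrix (Fin 2) (Fin 2) F) *ᵥ w) hv
    simp only [χ, AddMonoidHom.mk'_apply, Matrix.mulVec_mulVec, ← Matrix.SpecialLinearGroup.coe_mul,
      mul_inv_cancel, Matrix.SpecialLinearGroup.coe_one, Matrix.one_mulVec, Matrix.mulVec_zero] at h1
    exact (QuotientAddGroup.eq_zero_iff v).1 (ψ.injective (by rw [h1, map_zero]))
      ⟨x, hx⟩ (Subgroup.mem_top _)
  have hχz : χ z' = ![1, 0] := by
    show _ *ᵥ ψ _ = _
    rw [← hc, Matrix.mulVec_mulVec, ← Matrix.SpecialLinearGroup.coe_mul, inv_mul_cancel,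
      Matrix.SpecialLinearGroup.coe_one, Matrix.one_mulVec]
  have hUT : ∀ a : AL, UT (φ a) := fun a => by
    refine eq_uni_of_fixed _ ?_
    rw [← hχz, ← hχ, show ρ ((a : L) : P) z' = z' from hz'S _ (hAS a.2)]
  let x₁ : AL → F := fun a => (φ a : Matrix (Fin 2) (Fin 2) F) 0 1
  have hx₁ : Function.Injective x₁ := fun a b hab => Subtype.ext (φ.injective (by
    rw [(hUT a).eq_uni, (hUT b).eq_uni]
    exact congrArg uni hab))
  have hx₁s : Function.Surjective x₁ :=
    (hx₁.bijective_of_nat_card_le (by rw [Nat.card_eq_fintype_card, hcF])).2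
  let fr : Frame ρ p A :=
    { F := F
      instF := iF
      instFin := iFt
      H := L
      le := hAL
      φ := φ
      hC := fun x => ⟨fun hx => hUT ⟨x, hx⟩, fun hx => by
        obtain ⟨a, ha⟩ := hx₁s ((φ x : Matrix (Fin 2) (Fin 2) F) 0 1)
        have he : φ a = φ x := by rw [(hUT a).eq_uni, hx.eq_uni]; exact congrArg uni ha
        rw [← φ.injective he]
        exact a.2⟩
      χ := χ
      surj := hχs
      equiv := hχ
      ker := hχ0
      ppos := h.ppos
      podd := (Fact.out : p.Prime).odd_of_ne_two h.odd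
      pprime := Fact.out }
  refine ⟨by rw [← meas_map_conj ρ B g₀]; exact fr.meas_eq, m * g₀, ?_⟩
  have hmap' : B.map (MulAut.conj (m * g₀)).toMonoidHom = A.map (MulAut.conj m).toMonoidHom := by
    rw [hAdef, Subgroup.map_map]
    congr 1
    ext x
    simp [mul_assoc]
  rw [hmap']
  refine ⟨?_, fr.conj m, fun hle => hLM fun x hx => ?_⟩
  · refine le_trans (Subgroup.map_mono ?_) hmT
    rw [← hmap]
    exact Subgroup.map_mono hAS
  · have h1 : m * x * m⁻¹ ∈ M := hle ⟨x, hx, rfl⟩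
    have h2 := mul_mem (mul_mem (inv_mem hm) h1) hm
    simpa [mul_assoc] using h2

/-- No elementary abelian subgroup beats `|V|`. -/
theorem bound (h : HypT ρ p T M) {X : Subgroup P} (hX : Elem p X) : meas ρ X ≤ Nat.card V := by
  classical
  by_contra hlt
  push Not at hlt
  obtain ⟨Y, hY, hYmax⟩ := Set.exists_max_image {Y : Subgroup P | Elem p Y} (fun Y => meas ρ Y)
    (Set.toFinite _) ⟨X, hX⟩
  obtain ⟨B, ⟨hB, hBm⟩, hBmin⟩ := Set.exists_min_image
    {B : Subgroup P | Elem p B ∧ meas ρ B = meas ρ Y} (fun B => Nat.card B) (Set.toFinite _)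
    ⟨Y, hY, rfl⟩
  obtain ⟨S, hS⟩ := hB.isP.exists_le_sylow
  obtain ⟨g, hg⟩ := MulAction.exists_smul_eq P S T
  set B' := B.map (MulAut.conj g).toMonoidHom with hB'
  have hB'T : B' ≤ (T : Subgroup P) := by
    rw [← hg, Sylow.coe_subgroup_smul]
    exact Subgroup.map_mono hS
  have hm' : meas ρ B' = meas ρ Y := by rw [hB', meas_map_conj, hBm]
  have hV : Nat.card V < meas ρ Y := hlt.trans_le (hYmax X hX)
  have hB1 : B' ≠ ⊥ := fun he => by
    rw [he, meas_bot] at hm'
    omega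
  have hmin : ∀ Z, Z ≤ B' → Z ≠ ⊥ → Z ≠ B' → meas ρ Z < meas ρ B' := by
    intro Z hZ _ hne
    have hZe : Elem p Z := (hB.map _).to_le hZ
    refine hm'.symm ▸ lt_of_le_of_ne (hYmax Z hZe) fun he => hne ?_
    refine Subgroup.eq_of_le_of_card_ge hZ ?_
    rw [hB', Subgroup.card_map_of_injective (MulAut.conj g).injective]
    exact hBmin Z ⟨hZe, he⟩
  obtain ⟨he, -⟩ := h.exists_frame hB'T hB1 (hB.map _) (by omega) hmin
  omega

theorem exists_isMin_le (h : HypT ρ p T M) {X : Subgroup P} (hX : Elem p X) (hX1 : X ≠ ⊥)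
    (hm : Nat.card V ≤ meas ρ X) : ∃ C, C ≤ X ∧ IsMin ρ p C := by
  obtain ⟨C, ⟨hC, hC1, hCm⟩, hmin⟩ := Set.exists_min_image
    {C : Subgroup P | C ≤ X ∧ C ≠ ⊥ ∧ meas ρ C = Nat.card V} (fun C => Nat.card C) (Set.toFinite _)
    ⟨X, le_rfl, hX1, le_antisymm (h.bound hX) hm⟩
  refine ⟨C, hC, hX.to_le hC, hC1, hCm, fun Z hZ hZ1 hne =>
    lt_of_le_of_ne (h.bound (hX.to_le (hZ.trans hC))) fun he => hne ?_⟩
  exact Subgroup.eq_of_le_of_card_ge hZ (hmin Z ⟨hZ.trans hC, hZ1, he⟩)

/-- Every minimal exact offender has a frame. -/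
theorem nonempty_frame (h : HypT ρ p T M) {C : Subgroup P} (hC : IsMin ρ p C) :
    Nonempty (Frame ρ p C) := by
  classical
  obtain ⟨S, hS⟩ := hC.elem.isP.exists_le_sylow
  obtain ⟨g, hg⟩ := MulAction.exists_smul_eq P S T
  have hCT : C.map (MulAut.conj g).toMonoidHom ≤ (T : Subgroup P) := by
    rw [← hg, Sylow.coe_subgroup_smul]
    exact Subgroup.map_mono hS
  have hm : meas ρ (C.map (MulAut.conj g).toMonoidHom) = Nat.card V := by rw [meas_map_conj, hC.eq]
  have hmin : ∀ X, X ≤ C.map (MulAut.conj g).toMonoidHom → X ≠ ⊥ →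
      X ≠ C.map (MulAut.conj g).toMonoidHom → meas ρ X < meas ρ (C.map (MulAut.conj g).toMonoidHom) := by
    intro X hX hX1 hne
    rw [hm, ← meas_map_conj ρ X g⁻¹]
    refine hC.lt _ ?_ (fun he => hX1
      ((Subgroup.map_eq_bot_iff_of_injective _ (MulAut.conj g⁻¹).injective).1 he)) fun he => hne ?_
    · rintro _ ⟨x, hx, rfl⟩
      obtain ⟨c, hc, rfl⟩ := hX hx
      simpa [mul_assoc] using hc
    · refine Subgroup.eq_of_le_of_card_ge hX (le_of_eq ?_)
      conv_lhs => rw [← he]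
      rw [Subgroup.card_map_of_injective (MulAut.conj g).injective,
        Subgroup.card_map_of_injective (MulAut.conj g⁻¹).injective]
  obtain ⟨-, k, -, fr, -⟩ := h.exists_frame hCT (fun he => hC.ne_bot
    ((Subgroup.map_eq_bot_iff_of_injective _ (MulAut.conj g).injective).1 he)) (hC.elem.map _)
    hm.ge hmin
  have he : ((C.map (MulAut.conj g).toMonoidHom).map (MulAut.conj k).toMonoidHom).map
      (MulAut.conj (k * g)⁻¹).toMonoidHom = C := by
    rw [Subgroup.map_map, Subgroup.map_map]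
    convert Subgroup.map_id C using 2
    ext x
    simp [mul_assoc]
  exact ⟨he ▸ fr.conj (k * g)⁻¹⟩

/-- There is one in `T` whose `SL₂` is not in `M`. -/
theorem exists_good (h : HypT ρ p T M) :
    ∃ C, C ≤ (T : Subgroup P) ∧ IsMin ρ p C ∧ ∃ fr : Frame ρ p C, ¬ fr.H ≤ M := by
  classical
  obtain ⟨B, hBT, hB1, hB, hBm⟩ := h.off
  obtain ⟨C, hCB, hC⟩ := h.exists_isMin_le hB hB1 hBm
  obtain ⟨-, g, hgT, fr, hfr⟩ := h.exists_frame (hCB.trans hBT) hC.ne_bot hC.elem hC.eq.ge
    (fun X h1 h2 h3 => hC.eq ▸ hC.lt X h1 h2 h3)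
  refine ⟨_, hgT, ⟨hC.elem.map _, fr.C_ne_bot, fr.meas_eq, fun X hX hX1 hne => ?_⟩, fr, hfr⟩
  rw [← meas_map_conj ρ X g⁻¹]
  refine hC.lt _ ?_ (fun he => hX1
    ((Subgroup.map_eq_bot_iff_of_injective _ (MulAut.conj g⁻¹).injective).1 he)) fun he => hne ?_
  · rintro _ ⟨x, hx, rfl⟩
    obtain ⟨c, hc, rfl⟩ := hX hx
    simpa [mul_assoc] using hc
  · refine Subgroup.eq_of_le_of_card_ge hX (le_of_eq ?_)
    conv_lhs => rw [← he]
    rw [Subgroup.card_map_of_injective (MulAut.conj g).injective,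
      Subgroup.card_map_of_injective (MulAut.conj g⁻¹).injective]

end HypT

namespace Hyp

variable [Finite P] [Finite V] {T : Sylow p P} {M : Subgroup P}

theorem normalizer_le (h : Hyp ρ p T M) {X : Subgroup P} (hX : IsPGroup p X) (hX1 : X ≠ ⊥)
    (hJ : offJp ρ p (T : Subgroup P) ≤ Subgroup.normalizer (X : Set P)) :
    Subgroup.normalizer (X : Set P) ≤ M :=
  h.huniq _ hJ fun he => hX1 (h.core X (Subgroup.normalizer_eq_top_iff.1 he) hX)

theorem bound (h : Hyp ρ p T M) {X : Subgroup P} (hX : Elem p X) : meas ρ X ≤ Nat.card V :=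
  h.toHypT.bound hX

end Hyp

end CfsgLib.FocalOdd
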