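import Cfsg.Agent.Lib.FocalOdd.Bound

/-!
# Coordinates: only `C` is trivial on the series of `C`, and `N(C)` centralizes `τ`
-/

set_option autoImplicit false
set_option linter.unusedSectionVars false

namespace CfsgLib.FocalOdd

open Matrix CfsgLib.LocalEven.Pair CfsgLib.OffenderPair
open scoped MatrixGroups

variable {P : Type*} [Group P] {V : Type*} [AddCommGroup V] {ρ : P →* AddMonoid.End V}
  {p : ℕ} {C : Subgroup P}

/-- The lower unitriangular element. -/
def low {F : Type*} [Field F] (m : F) : SpecialLinearGroup (Fin 2) F :=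
  ⟨!![1, 0; m, 1], by simp [Matrix.det_fin_two]⟩

/-- The Weyl matrix. -/
def weyl (F : Type*) [Field F] : SpecialLinearGroup (Fin 2) F :=
  ⟨!![0, 1; -1, 0], by simp [Matrix.det_fin_two]⟩

theorem low_mul_low_neg {F : Type*} [Field F] (m : F) : low m * low (-m) = 1 := by
  refine Subtype.ext ?_
  show (!![1, 0; m, 1] * !![1, 0; -m, 1] : Matrix (Fin 2) (Fin 2) F) = 1
  ext i j
  fin_cases i <;> fin_cases j <;> simp [Matrix.mul_apply, Fin.sum_univ_two]

namespace Frame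

variable (fr : Frame ρ p C)

/-! ### The torus, the opposite root group and `τ` -/

/-- The torus element. -/
noncomputable def tEl (a : fr.Fˣ) : P := (fr.φ.symm (diagHom a) : fr.H)

/-- The opposite root element. -/
def lEl (m : fr.F) : P := (fr.φ.symm (low m) : fr.H)

/-- The Weyl element. -/
def wEl : P := (fr.φ.symm (weyl fr.F) : fr.H)

theorem tEl_act (a : fr.Fˣ) (v : V) :
    fr.pr0 (ρ (fr.tEl a) v) = a * fr.pr0 v ∧ fr.pr1 (ρ (fr.tEl a) v) = ↑a⁻¹ * fr.pr1 v ∧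
      fr.uP (ρ (fr.tEl a) v) = fr.uP v := by
  rw [tEl, act_H, MulEquiv.apply_symm_apply, diagHom_coe]
  refine ⟨?_, ?_, ?_⟩
  · simp [pr0_apply, χ_ι, χ_uP, Matrix.mulVec, dotProduct, Fin.sum_univ_two]
  · simp [pr1_apply, χ_ι, χ_uP, Matrix.mulVec, dotProduct, Fin.sum_univ_two]
  · simp [uP_ι]

theorem lEl_act (m : fr.F) (v : V) :
    fr.pr0 (ρ (fr.lEl m) v) = fr.pr0 v ∧ fr.pr1 (ρ (fr.lEl m) v) = fr.pr1 v + m * fr.pr0 v ∧
      fr.uP (ρ (fr.lEl m) v) = fr.uP v := by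
  rw [lEl, act_H, MulEquiv.apply_symm_apply]
  unfold low
  refine ⟨?_, ?_, ?_⟩
  · simp [pr0_apply, χ_ι, χ_uP, Matrix.mulVec, dotProduct, Fin.sum_univ_two]
  · simp [pr0_apply, pr1_apply, χ_ι, χ_uP, Matrix.mulVec, dotProduct, Fin.sum_univ_two]
    ring
  · simp [uP_ι]

theorem wEl_act (v : V) :
    fr.pr0 (ρ fr.wEl v) = fr.pr1 v ∧ fr.pr1 (ρ fr.wEl v) = -fr.pr0 v ∧
      fr.uP (ρ fr.wEl v) = fr.uP v := by
  rw [wEl, act_H, MulEquiv.apply_symm_apply]
  unfold weyl
  refine ⟨?_, ?_, ?_⟩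
  · simp [pr0_apply, pr1_apply, χ_ι, χ_uP, Matrix.mulVec, dotProduct, Fin.sum_univ_two]
  · simp [pr0_apply, pr1_apply, χ_ι, χ_uP, Matrix.mulVec, dotProduct, Fin.sum_univ_two]
  · simp [uP_ι]

theorem lEl_inv (m : fr.F) : (fr.lEl m)⁻¹ = fr.lEl (-m) := by
  rw [inv_eq_iff_mul_eq_one, lEl, lEl, ← Subgroup.coe_mul, ← map_mul, low_mul_low_neg, map_one,
    Subgroup.coe_one]

theorem tEl_inv (a : fr.Fˣ) : (fr.tEl a)⁻¹ = fr.tEl a⁻¹ := by
  rw [tEl, tEl, map_inv, map_inv, Subgroup.coe_inv]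

theorem uP_τ (v : V) : fr.uP (ρ fr.τ v) = fr.uP v := by
  nth_rewrite 1 [← fr.decomp v]
  rw [map_add, τ_ι, fr.τ_fix (fr.χ_uP v), map_add, map_neg, uP_ι, neg_zero, zero_add, uP_uP]

theorem pr0_τ (v : V) : fr.pr0 (ρ fr.τ v) = -fr.pr0 v := by
  rw [pr0_apply, χ_τ]; rfl

theorem pr1_τ (v : V) : fr.pr1 (ρ fr.τ v) = -fr.pr1 v := by
  rw [pr1_apply, χ_τ]; rfl

theorem τ_ι0 (a : fr.F) : ρ fr.τ (fr.ι0 a) = -fr.ι0 a := fr.τ_ι _

theorem τ_uP (v : V) : ρ fr.τ (fr.uP v) = fr.uP v := fr.τ_fix (fr.χ_uP v)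

/-! ### The stabilizer of the series -/

/-- Trivial on `W₀`, on `(W₀ ⊕ U) / W₀` and on `V / (W₀ ⊕ U)`. -/
structure InE (g : P) : Prop where
  fix0 : ∀ a, ρ g (fr.ι0 a) = fr.ι0 a
  fixU : ∀ v, fr.uP (ρ g (fr.uP v)) = fr.uP v
  p1 : ∀ v, fr.pr1 (ρ g v) = fr.pr1 v

/-- The part `U → W₀`. -/
noncomputable def al (g : P) : V →+ fr.F := fr.pr0.comp ((show V →+ V from ρ g).comp fr.uP)

/-- The part `X → U`. -/
noncomputable def be (g : P) : fr.F →+ V := fr.uP.comp ((show V →+ V from ρ g).comp fr.ι2)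

/-- The part `X → W₀`. -/
noncomputable def ga (g : P) : fr.F →+ fr.F := fr.pr0.comp ((show V →+ V from ρ g).comp fr.ι2)

theorem al_apply (g : P) (v : V) : fr.al g v = fr.pr0 (ρ g (fr.uP v)) := rfl

theorem be_apply (g : P) (b : fr.F) : fr.be g b = fr.uP (ρ g (fr.ι2 b)) := rfl

theorem ga_apply (g : P) (b : fr.F) : fr.ga g b = fr.pr0 (ρ g (fr.ι2 b)) := rfl

@[simp] theorem al_uP (g : P) (v : V) : fr.al g (fr.uP v) = fr.al g v := by simp [al_apply]

@[simp] theorem al_ι0 (g : P) (a : fr.F) : fr.al g (fr.ι0 a) = 0 := by simp [al_apply]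

@[simp] theorem al_ι2 (g : P) (a : fr.F) : fr.al g (fr.ι2 a) = 0 := by simp [al_apply]

@[simp] theorem uP_be (g : P) (b : fr.F) : fr.uP (fr.be g b) = fr.be g b := by simp [be_apply]

@[simp] theorem pr0_be (g : P) (b : fr.F) : fr.pr0 (fr.be g b) = 0 := by simp [be_apply]

@[simp] theorem pr1_be (g : P) (b : fr.F) : fr.pr1 (fr.be g b) = 0 := by simp [be_apply]

variable {fr}

theorem InE.q1 {g : P} (hg : fr.InE g) (v : V) : fr.pr1 (ρ g v) = fr.pr1 v := hg.p1 v

theorem InE.q0 {g : P} (hg : fr.InE g) (v : V) :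
    fr.pr0 (ρ g v) = fr.pr0 v + (fr.al g v + fr.ga g (fr.pr1 v)) := by
  nth_rewrite 1 [← fr.decomp3 v]
  rw [map_add (ρ g), map_add (ρ g), hg.fix0, map_add, map_add, pr0_ι0, al_apply, ga_apply]
  abel

theorem InE.qu {g : P} (hg : fr.InE g) (v : V) :
    fr.uP (ρ g v) = fr.uP v + fr.be g (fr.pr1 v) := by
  nth_rewrite 1 [← fr.decomp3 v]
  rw [map_add (ρ g), map_add (ρ g), hg.fix0, map_add, map_add, uP_ι0, hg.fixU, be_apply]
  abel

theorem InE.one : fr.InE 1 :=
  ⟨fun a => act_one ρ _, fun v => by rw [act_one, uP_uP], fun v => by rw [act_one]⟩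

theorem InE.mul {g h : P} (hg : fr.InE g) (hh : fr.InE h) : fr.InE (g * h) :=
  ⟨fun a => by rw [act_mul, hh.fix0, hg.fix0], fun v => by
    rw [act_mul, hg.qu, hh.fixU, hh.q1, pr1_uP, map_zero, add_zero],
    fun v => by rw [act_mul, hg.q1, hh.q1]⟩

theorem InE.inv [Finite P] {g : P} (hg : fr.InE g) : fr.InE g⁻¹ := by
  have hpow : ∀ n : ℕ, fr.InE (g ^ n) := by
    intro n
    induction n with
    | zero => rw [pow_zero]; exact InE.one
    | succ n ih => rw [pow_succ]; exact ih.mul hg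
  have h1 : g⁻¹ = g ^ (orderOf g - 1) := by
    refine inv_eq_of_mul_eq_one_right ?_
    rw [← pow_succ', Nat.sub_add_cancel (orderOf_pos g), pow_orderOf_eq_one]
  rw [h1]
  exact hpow _

@[simp] theorem al_one (v : V) : fr.al 1 v = 0 := by simp [al_apply]

@[simp] theorem be_one (b : fr.F) : fr.be 1 b = 0 := by simp [be_apply]

@[simp] theorem ga_one (b : fr.F) : fr.ga 1 b = 0 := by simp [ga_apply]

theorem InE.al_mul {g h : P} (hg : fr.InE g) (hh : fr.InE h) (v : V) :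
    fr.al (g * h) v = fr.al g v + fr.al h v := by
  conv_lhs => rw [al_apply, act_mul, hg.q0, hh.q1, pr1_uP, map_zero, add_zero]
  have e : fr.al g (ρ h (fr.uP v)) = fr.al g v := by
    rw [← al_uP fr g (ρ h (fr.uP v)), hh.fixU, al_uP]
  rw [e, ← al_apply, add_comm]

theorem InE.be_mul {g h : P} (hg : fr.InE g) (hh : fr.InE h) (b : fr.F) :
    fr.be (g * h) b = fr.be g b + fr.be h b := by
  conv_lhs => rw [be_apply, act_mul, hg.qu, hh.q1, pr1_ι2, ← be_apply, add_comm]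

theorem InE.ga_mul {g h : P} (hg : fr.InE g) (hh : fr.InE h) (b : fr.F) :
    fr.ga (g * h) b = fr.ga g b + fr.ga h b + fr.al g (fr.be h b) := by
  conv_lhs => rw [ga_apply, act_mul, hg.q0, hh.q1, pr1_ι2]
  have e : fr.al g (ρ h (fr.ι2 b)) = fr.al g (fr.be h b) := by
    rw [← al_uP fr g (ρ h (fr.ι2 b)), be_apply]
  rw [e, ← ga_apply]
  abel

theorem InE.al_inv [Finite P] {g : P} (hg : fr.InE g) (v : V) : fr.al g⁻¹ v = -fr.al g v := by
  have h := hg.inv.al_mul hg v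
  rw [inv_mul_cancel, al_one] at h
  exact eq_neg_of_add_eq_zero_left h.symm

theorem InE.be_inv [Finite P] {g : P} (hg : fr.InE g) (b : fr.F) : fr.be g⁻¹ b = -fr.be g b := by
  have h := hg.inv.be_mul hg b
  rw [inv_mul_cancel, be_one] at h
  exact eq_neg_of_add_eq_zero_left h.symm

theorem InE.ga_inv [Finite P] {g : P} (hg : fr.InE g) (b : fr.F) :
    fr.ga g⁻¹ b = -fr.ga g b + fr.al g (fr.be g b) := by
  have h := hg.inv.ga_mul hg b
  rw [inv_mul_cancel, ga_one, hg.al_inv] at h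
  linear_combination -h

theorem InE.ext (hf : ∀ g : P, (∀ v, ρ g v = v) → g = 1) {g h : P} (hg : fr.InE g) (hh : fr.InE h)
    (h1 : ∀ v, fr.al g v = fr.al h v) (h2 : ∀ b, fr.be g b = fr.be h b)
    (h3 : ∀ b, fr.ga g b = fr.ga h b) : g = h := by
  refine inv_mul_eq_one.1 (hf _ fun v => ?_)
  have e : ρ g v = ρ h v := fr.pr_ext (by rw [hg.q0, hh.q0, h1, h3]) (by rw [hg.q1, hh.q1])
    (by rw [hg.qu, hh.qu, h2])
  rw [act_mul, ← e, act_inv_act]

variable (fr)

theorem cEl_inE (s : fr.F) : fr.InE (fr.cEl s) :=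
  ⟨fun a => by simp [cEl_act], fun v => by simp [cEl_act], fun v => by simp [cEl_act]⟩

@[simp] theorem al_cEl (s : fr.F) (v : V) : fr.al (fr.cEl s) v = 0 := by
  simp [al_apply, cEl_act]

@[simp] theorem be_cEl (s : fr.F) (b : fr.F) : fr.be (fr.cEl s) b = 0 := by
  simp [be_apply, cEl_act]

@[simp] theorem ga_cEl (s : fr.F) (b : fr.F) : fr.ga (fr.cEl s) b = s * b := by
  simp [ga_apply, cEl_act]

theorem inE_of_mem {c : P} (hc : c ∈ C) : fr.InE c := by
  obtain ⟨s, rfl⟩ := fr.exists_cEl hc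
  exact fr.cEl_inE s

theorem inE_conj_τ {g : P} (hg : fr.InE g) : fr.InE (fr.τ * g * fr.τ⁻¹) := by
  rw [fr.τ_inv]
  refine ⟨fun a => ?_, fun v => ?_, fun v => ?_⟩
  · rw [act_mul, act_mul, τ_ι0, map_neg, hg.fix0, map_neg, τ_ι0, neg_neg]
  · rw [act_mul, act_mul, τ_uP, uP_τ, hg.fixU]
  · rw [act_mul, act_mul, pr1_τ, hg.q1, pr1_τ, neg_neg]

theorem conj_τ_data {g : P} (hg : fr.InE g) :
    (∀ v, fr.al (fr.τ * g * fr.τ⁻¹) v = -fr.al g v) ∧
      (∀ b, fr.be (fr.τ * g * fr.τ⁻¹) b = -fr.be g b) ∧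
        ∀ b, fr.ga (fr.τ * g * fr.τ⁻¹) b = fr.ga g b := by
  rw [fr.τ_inv]
  refine ⟨fun v => ?_, fun b => ?_, fun b => ?_⟩
  · rw [al_apply, act_mul, act_mul, τ_uP, pr0_τ, ← al_apply]
  · rw [be_apply, act_mul, act_mul, uP_τ, ι2_apply, τ_ι, map_neg, map_neg, ← ι2_apply, ← be_apply]
  · rw [ga_apply, act_mul, act_mul, pr0_τ, ι2_apply, τ_ι, map_neg, map_neg, neg_neg, ← ι2_apply,
      ← ga_apply]

theorem inE_conj_t {g : P} (hg : fr.InE g) (a : fr.Fˣ) :
    fr.InE (fr.tEl a * g * (fr.tEl a)⁻¹) ∧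
      (∀ v, fr.al (fr.tEl a * g * (fr.tEl a)⁻¹) v = a * fr.al g v) ∧
      (∀ b, fr.be (fr.tEl a * g * (fr.tEl a)⁻¹) b = fr.be g (a * b)) ∧
      ∀ b, fr.ga (fr.tEl a * g * (fr.tEl a)⁻¹) b = a * fr.ga g (a * b) := by
  rw [fr.tEl_inv]
  have hU : ∀ v, ρ (fr.tEl a⁻¹) (fr.uP v) = fr.uP v := fun v => by
    obtain ⟨h0, h1, h2⟩ := fr.tEl_act a⁻¹ (fr.uP v)
    exact fr.pr_ext (by rw [h0]; simp) (by rw [h1]; simp) (by rw [h2])
  have h2' : ∀ b, ρ (fr.tEl a⁻¹) (fr.ι2 b) = fr.ι2 (a * b) := fun b => by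
    obtain ⟨h0, h1, h2⟩ := fr.tEl_act a⁻¹ (fr.ι2 b)
    exact fr.pr_ext (by rw [h0]; simp) (by rw [h1]; simp) (by rw [h2]; simp)
  refine ⟨⟨fun c => ?_, fun v => ?_, fun v => ?_⟩, fun v => ?_, fun b => ?_, fun b => ?_⟩
  · have h3 : ρ (fr.tEl a⁻¹) (fr.ι0 c) = fr.ι0 (↑a⁻¹ * c) := by
      obtain ⟨h0, h1, h2⟩ := fr.tEl_act a⁻¹ (fr.ι0 c)
      exact fr.pr_ext (by rw [h0]; simp) (by rw [h1]; simp) (by rw [h2]; simp)
    rw [act_mul, act_mul, h3, hg.fix0]
    obtain ⟨h0, h1, h2⟩ := fr.tEl_act a (fr.ι0 (↑a⁻¹ * c))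
    exact fr.pr_ext (by rw [h0]; simp) (by rw [h1]; simp) (by rw [h2]; simp)
  · rw [act_mul, act_mul, hU, (fr.tEl_act a _).2.2, hg.fixU]
  · rw [act_mul, act_mul, (fr.tEl_act a _).2.1, hg.q1, (fr.tEl_act a⁻¹ _).2.1]
    simp
  · rw [al_apply, act_mul, act_mul, hU, (fr.tEl_act a _).1, ← al_apply]
  · rw [be_apply, act_mul, act_mul, h2', (fr.tEl_act a _).2.2, ← be_apply]
  · rw [ga_apply, act_mul, act_mul, h2', (fr.tEl_act a _).1, ← ga_apply]

/-! ### Groups fixing `W` -/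

/-- Trivial on `fix C` and on the quotient by it. -/
def kW : Subgroup P where
  carrier := {g | (∀ v, fr.pr1 v = 0 → ρ g v = v) ∧ ∀ v, fr.pr1 (ρ g v) = fr.pr1 v}
  one_mem' := ⟨fun v _ => act_one ρ v, fun v => by rw [act_one]⟩
  mul_mem' := fun {g h} hg hh => ⟨fun v hv => by rw [act_mul, hh.1 v hv, hg.1 v hv],
    fun v => by rw [act_mul, hg.2, hh.2]⟩
  inv_mem' := fun {g} hg => ⟨fun v hv => by
      conv_lhs => rw [← hg.1 v hv]
      exact act_inv_act ρ g v,
    fun v => by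
      conv_rhs => rw [← act_act_inv ρ g v]
      exact (hg.2 _).symm⟩

theorem mem_kW {g : P} :
    g ∈ fr.kW ↔ (∀ v, fr.pr1 v = 0 → ρ g v = v) ∧ ∀ v, fr.pr1 (ρ g v) = fr.pr1 v := Iff.rfl

section Global

variable [Finite P] [Finite V] [Fact p.Prime] {T : Sylow p P} {M : Subgroup P}

theorem mem_of_kW (h : Hyp ρ p T M) {g : P} (hg : g ∈ fr.kW) : g ∈ C := by
  have hle : C ≤ fr.kW := fun c hc => by
    obtain ⟨s, rfl⟩ := fr.exists_cEl hc
    exact ⟨fun v hv => by simp [cEl_act, hv], fun v => by simp [cEl_act]⟩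
  have hd : ∀ g ∈ fr.kW, ∀ v, fr.pr1 (ρ g v - v) = 0 := fun g hg v => by
    rw [map_sub, hg.2, sub_self]
  have he : Elem p fr.kW := by
    refine ⟨fun a ha => h.faithful _ fun v => ?_, fun a ha b hb => ?_⟩
    · have hn : ∀ n : ℕ, ρ (a ^ n) v = v + n • (ρ a v - v) := by
        intro n
        induction n with
        | zero => rw [pow_zero, act_one, zero_nsmul, add_zero]
        | succ n ih =>
          rw [pow_succ', act_mul, ih, map_add, map_nsmul, ha.1 _ (hd a ha v), succ_nsmul]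
          abel
      rw [hn, fr.ppos, add_zero]
    · refine inv_mul_eq_one.1 (h.faithful _ fun v => ?_)
      have key : ∀ x ∈ fr.kW, ∀ y ∈ fr.kW, ρ (x * y) v = v + (ρ x v - v) + (ρ y v - v) := by
        intro x hx y hy
        rw [act_mul]
        nth_rewrite 1 [show ρ y v = v + (ρ y v - v) by abel]
        rw [map_add, hx.1 _ (hd y hy v)]
        abel
      have e : ρ (a * b) v = ρ (b * a) v := by rw [key a ha b hb, key b hb a ha]; abel
      rw [act_mul, ← e, act_inv_act]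
  have hfix : fix ρ C ≤ fix ρ fr.kW := fun v hv x hx => hx.1 v (fr.mem_fix_iff.1 hv)
  have h1 := h.bound he
  rw [← fr.meas_eq, meas, meas] at h1
  have hcard : Nat.card fr.kW ≤ Nat.card C := by
    refine Nat.le_of_mul_le_mul_right ((Nat.mul_le_mul_left _ ?_).trans h1)
      (Nat.card_pos (α := fix ρ C))
    exact Nat.card_le_card_of_injective (fun u : fix ρ C => (⟨u, hfix u.2⟩ : fix ρ fr.kW))
      fun a b e => Subtype.ext (congrArg (fun w : fix ρ fr.kW => (w : V)) e)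
  rw [Subgroup.eq_of_le_of_card_ge hle hcard]
  exact hg

theorem mem_of_al (h : Hyp ρ p T M) {g : P} (hg : fr.InE g) (h0 : ∀ v, fr.al g v = 0) :
    ∃ s, g = fr.cEl s ∧ g ∈ C := by
  have hk : g ∈ fr.kW := ⟨fun v hv => fr.pr_ext (by rw [hg.q0, hv, h0, map_zero, add_zero, add_zero])
    (hg.q1 v) (by rw [hg.qu, hv, map_zero, add_zero]), hg.q1⟩
  obtain ⟨s, hs⟩ := fr.exists_cEl (fr.mem_of_kW h hk)
  exact ⟨s, hs, fr.mem_of_kW h hk⟩

theorem uP_of_fixW2 (h : Hyp ρ p T M) {g : P} (h1 : ∀ v, fr.pr0 v = 0 → ρ g v = v)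
    (h2 : ∀ v, fr.pr0 (ρ g v) = fr.pr0 v) (v : V) : fr.uP (ρ g v) = fr.uP v := by
  have hk : fr.wEl * g * fr.wEl⁻¹ ∈ fr.kW := by
    refine ⟨fun x hx => ?_, fun x => ?_⟩
    · have e := (fr.wEl_act (ρ fr.wEl⁻¹ x)).2.1
      rw [act_act_inv, hx, eq_comm, neg_eq_zero] at e
      rw [act_mul, act_mul, h1 _ e, act_act_inv]
    · rw [act_mul, act_mul, (fr.wEl_act _).2.1, h2, ← (fr.wEl_act _).2.1, act_act_inv]
  obtain ⟨s, hs⟩ := fr.exists_cEl (fr.mem_of_kW h hk)
  have e := congrArg (fun x => fr.uP (ρ x (ρ fr.wEl v))) hs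
  simp only [act_mul, act_inv_act, (fr.wEl_act _).2.2, cEl_act, map_add, uP_ι0, add_zero] at e
  exact e

theorem derivation_eq (m : fr.F →+ fr.F)
    (hm : ∀ a b, m (a * b) = a * m b + (m a - a * m 1) * b) (b : fr.F) : m b = b * m 1 := by
  set d : fr.F → fr.F := fun x => m x - x * m 1 with hd
  have hmul : ∀ a x, d (a * x) = a * d x + d a * x := fun a x => by
    simp only [hd, hm a x]
    ring
  have hpow : ∀ n : ℕ, d (b ^ (n + 1)) = (n + 1) * b ^ n * d b := by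
    intro n
    induction n with
    | zero => simp
    | succ n ih =>
      rw [pow_succ', hmul, ih]
      push_cast
      ring
  have hq := hpow (Fintype.card fr.F - 1)
  rw [Nat.sub_add_cancel Fintype.card_pos, FiniteField.pow_card] at hq
  have h0 : ((Fintype.card fr.F - 1 : ℕ) : fr.F) + 1 = 0 := by
    rw [← Nat.cast_add_one, Nat.sub_add_cancel Fintype.card_pos, FiniteField.cast_card_eq_zero]
  rw [h0, zero_mul, zero_mul] at hq
  exact sub_eq_zero.1 hq

theorem inverted_eq_one (h : Hyp ρ p T M) {g : P} (hg : fr.InE g)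
    (hinv : fr.τ * g * fr.τ⁻¹ = g⁻¹) : g = 1 := by
  classical
  set m : fr.F →+ fr.F := (fr.al g).comp (fr.be g) with hmdef
  have hm0 : ∀ b, m b = fr.al g (fr.be g b) := fun b => rfl
  have h2γ : ∀ b, fr.ga g b + fr.ga g b = m b := fun b => by
    have e := (fr.conj_τ_data hg).2.2 b
    rw [hinv, hg.ga_inv] at e
    rw [hm0]
    linear_combination -e
  -- `m` is linear
  have hmlin : ∀ a b, m (a * b) = a * m b + (m a - a * m 1) * b := by
    intro a
    rcases eq_or_ne a 0 with rfl | ha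
    · simp
    obtain ⟨hg', hal', hbe', -⟩ := fr.inE_conj_t hg (Units.mk0 a ha)
    set g' := fr.tEl (Units.mk0 a ha) * g * (fr.tEl (Units.mk0 a ha))⁻¹
    have hx := hg'.mul hg
    have hy := hg.mul hg'
    set x := g' * g with hxdef
    set y := g * g' with hydef
    have hz := hx.inv.mul hy
    have hal : ∀ v, fr.al x v = fr.al y v := fun v => by rw [hg'.al_mul hg, hg.al_mul hg', add_comm]
    have hbe : ∀ b, fr.be x b = fr.be y b := fun b => by rw [hg'.be_mul hg, hg.be_mul hg', add_comm]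
    obtain ⟨c, hc, -⟩ := fr.mem_of_al h hz fun v => by
      rw [hx.inv.al_mul hy, hx.al_inv, hal, neg_add_cancel]
    have key : ∀ b, m (a * b) - a * m b = c * b := by
      intro b
      have e := hx.inv.ga_mul hy b
      rw [hc, ga_cEl, hx.ga_inv, hx.al_inv, hbe, hg'.ga_mul hg, hg.ga_mul hg', hbe', hal'] at e
      simp only [Units.val_mk0] at e
      rw [← hm0, ← hm0] at e
      linear_combination -e
    intro b
    have e1 := key 1
    rw [mul_one, mul_one] at e1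
    linear_combination key b + (-b) * e1
  have hm : ∀ b, m b = b * m 1 := fr.derivation_eq m hmlin
  set s0 := (2 : fr.F)⁻¹ * m 1 with hs0
  have hγ : ∀ b, fr.ga g b = s0 * b := fun b => by
    have e := h2γ b
    rw [hm] at e
    rw [hs0]
    field_simp [fr.two_ne]
    linear_combination e
  -- remove it
  set g0 := g * fr.cEl (-s0) with hg0
  have hg0E : fr.InE g0 := hg.mul (fr.cEl_inE _)
  have hal0 : ∀ v, fr.al g0 v = fr.al g v := fun v => by
    rw [hg0, hg.al_mul (fr.cEl_inE _), al_cEl, add_zero]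
  have hbe0 : ∀ b, fr.be g0 b = fr.be g b := fun b => by
    rw [hg0, hg.be_mul (fr.cEl_inE _), be_cEl, add_zero]
  have hga0 : ∀ b, fr.ga g0 b = 0 := fun b => by
    rw [hg0, hg.ga_mul (fr.cEl_inE _), be_cEl, map_zero, ga_cEl, hγ]
    ring
  have hm1 : m 1 = 0 := by
    set L := fr.lEl 1 with hL
    set d := g0 * L * g0⁻¹ with hd
    set μ : V → fr.F := fun v => fr.pr0 (ρ g0⁻¹ v) with hμ
    have hL1 : ∀ v, ρ L v = v + fr.ι2 (fr.pr0 v) := fun v => by
      obtain ⟨a, b, c⟩ := fr.lEl_act 1 v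
      exact fr.pr_ext (by rw [hL, a]; simp) (by rw [hL, b]; simp) (by rw [hL, c]; simp)
    have hd1 : ∀ v, ρ d v = v + ρ g0 (fr.ι2 (μ v)) := fun v => by
      rw [hd, act_mul, act_mul, hL1, map_add, act_act_inv]
    clear_value d
    have hP0 : ∀ b, fr.pr0 (ρ g0 (fr.ι2 b)) = 0 := fun b => by
      rw [← ga_apply, hga0]
    have hbd : ∀ v, ρ (d * L) v = ρ (L * d) v + ρ g0 (fr.ι2 (μ (fr.ι2 (fr.pr0 v)))) := by
      intro v
      rw [act_mul, act_mul, hd1 (ρ L v), hL1 v, hL1 (ρ d v), hd1 v, map_add fr.pr0, hP0, add_zero]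
      simp only [hμ, map_add]
      abel
    set c := d * L * (L * d)⁻¹ with hc
    have hc1 : ∀ v, ρ c (ρ (L * d) v) = ρ (d * L) v := fun v => by
      rw [hc, act_mul, act_inv_act]
    have hy : ∀ v, fr.pr0 (ρ (L * d) v) = fr.pr0 v := fun v => by
      rw [act_mul, hL1, hd1, map_add, pr0_ι2, add_zero, map_add, hP0, add_zero]
    have hu := fr.uP_of_fixW2 h (g := c) (fun w hw => by
        obtain ⟨v, rfl⟩ : ∃ v, ρ (L * d) v = w := ⟨_, act_act_inv ρ (L * d) w⟩
        rw [hy] at hw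
        rw [hc1, hbd, hw, map_zero, hμ]
        simp)
      (fun w => by
        obtain ⟨v, rfl⟩ : ∃ v, ρ (L * d) v = w := ⟨_, act_act_inv ρ (L * d) w⟩
        rw [hc1, hbd, map_add, hP0, add_zero])
      (ρ (L * d) (fr.ι0 1))
    rw [hc1, hbd, map_add, add_eq_left, ← be_apply, pr0_ι0] at hu
    have hμ1 : μ (fr.ι2 1) = m 1 := by
      show fr.pr0 (ρ g0⁻¹ (fr.ι2 1)) = _
      rw [← ga_apply, hg0E.ga_inv, hga0, hal0, hbe0, neg_zero, zero_add, hm0]
    rw [hμ1, hbe0] at hu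
    have h3 := congrArg (fr.al g) hu
    rw [← hm0, hm, map_zero] at h3
    exact mul_self_eq_zero.1 h3
  have hm' : ∀ b, fr.al g (fr.be g b) = 0 := fun b => by rw [← hm0, hm, hm1, mul_zero]
  have hgaz : ∀ b, fr.ga g b = 0 := fun b => by rw [hγ, hs0, hm1, mul_zero, zero_mul]
  by_contra hne
  set α := fr.al g with hα
  set β := fr.be g with hβ
  obtain ⟨v0, hv0⟩ : ∃ v, α v ≠ 0 := by
    by_contra hall
    push Not at hall
    obtain ⟨s, hs, -⟩ := fr.mem_of_al h hg hall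
    refine hne (hg.ext h.faithful InE.one (fun v => by rw [← hα, hall, al_one]) (fun b => ?_)
      fun b => by rw [hgaz, ga_one])
    rw [hs, be_cEl, be_one]
  -- the torus orbit
  have hgL : ∀ a : fr.F, ∃ x, fr.InE x ∧ (∀ v, fr.al x v = a * α v) ∧
      (∀ b, fr.be x b = β (a * b)) ∧ ∀ b, fr.ga x b = 0 := by
    intro a
    rcases eq_or_ne a 0 with rfl | ha
    · exact ⟨1, InE.one, fun v => by simp, fun b => by simp, fun b => by simp⟩
    obtain ⟨h1, h2, h3, h4⟩ := fr.inE_conj_t hg (Units.mk0 a ha)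
    exact ⟨_, h1, fun v => h2 v, fun b => h3 b, fun b => by rw [h4, hgaz, mul_zero]⟩
  choose gL hgLE hgLa hgLb hgLc using hgL
  let Y : Subgroup P :=
    { carrier := {x | fr.InE x ∧ ∃ a, (∀ v, fr.al x v = a * α v) ∧ ∀ b, fr.be x b = β (a * b)}
      one_mem' := ⟨InE.one, 0, fun v => by simp, fun b => by simp⟩
      mul_mem' := by
        rintro x y ⟨hx, a, ha, ha'⟩ ⟨hy, c, hc, hc'⟩
        exact ⟨hx.mul hy, a + c, fun v => by rw [hx.al_mul hy, ha, hc, add_mul],
          fun b => by rw [hx.be_mul hy, ha', hc', add_mul, map_add]⟩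
      inv_mem' := by
        rintro x ⟨hx, a, ha, ha'⟩
        exact ⟨hx.inv, -a, fun v => by rw [hx.al_inv, ha, neg_mul],
          fun b => by rw [hx.be_inv, ha', neg_mul, map_neg]⟩ }
  have hYga : ∀ x ∈ Y, ∀ y ∈ Y, ∀ b, fr.ga (x * y) b = fr.ga x b + fr.ga y b := by
    rintro x ⟨hx, a, ha, -⟩ y ⟨hy, c, -, hc⟩ b
    rw [hx.ga_mul hy, ha, hc, hm', mul_zero, add_zero]
  have hYe : Elem p Y := by
    refine ⟨fun x hx => ?_, fun x hx y hy => ?_⟩
    · have hn : ∀ n : ℕ, fr.InE (x ^ n) ∧ x ^ n ∈ Y ∧ (∀ v, fr.al (x ^ n) v = n • fr.al x v) ∧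
          (∀ b, fr.be (x ^ n) b = n • fr.be x b) ∧ ∀ b, fr.ga (x ^ n) b = n • fr.ga x b := by
        intro n
        induction n with
        | zero =>
          rw [pow_zero]
          exact ⟨InE.one, one_mem Y, fun v => by simp, fun b => by simp, fun b => by simp⟩
        | succ n ih =>
          obtain ⟨i1, i2, i3, i4, i5⟩ := ih
          rw [pow_succ]
          exact ⟨i1.mul hx.1, mul_mem i2 hx, fun v => by rw [i1.al_mul hx.1, i3, succ_nsmul],
            fun b => by rw [i1.be_mul hx.1, i4, succ_nsmul],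
            fun b => by rw [hYga _ i2 _ hx, i5, succ_nsmul]⟩
      obtain ⟨i1, -, i3, i4, i5⟩ := hn p
      exact i1.ext h.faithful InE.one
        (fun v => by rw [i3, nsmul_eq_mul, fr.natCast_p, zero_mul, al_one])
        (fun b => by rw [i4, fr.ppos, be_one])
        (fun b => by rw [i5, nsmul_eq_mul, fr.natCast_p, zero_mul, ga_one])
    · exact (hx.1.mul hy.1).ext h.faithful (hy.1.mul hx.1)
        (fun v => by rw [hx.1.al_mul hy.1, hy.1.al_mul hx.1, add_comm])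
        (fun b => by rw [hx.1.be_mul hy.1, hy.1.be_mul hx.1, add_comm])
        (fun b => by rw [hYga x hx y hy, hYga y hy x hx, add_comm])
  have hgLY : ∀ a, gL a ∈ Y := fun a => ⟨hgLE a, a, hgLa a, hgLb a⟩
  have hcY : ∀ s, fr.cEl s ∈ Y := fun s => ⟨fr.cEl_inE s, 0, fun v => by simp, fun b => by simp⟩
  have hYcard : Nat.card fr.F * Nat.card fr.F ≤ Nat.card Y := by
    rw [← Nat.card_prod]
    refine Nat.card_le_card_of_injective
      (fun z : fr.F × fr.F => (⟨gL z.1 * fr.cEl z.2, mul_mem (hgLY _) (hcY _)⟩ : Y)) ?_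
    rintro ⟨a, s⟩ ⟨a', s'⟩ he
    have he' : gL a * fr.cEl s = gL a' * fr.cEl s' := congrArg Subtype.val he
    have h1 := congrArg (fun x => fr.al x v0) he'
    simp only [(hgLE a).al_mul (fr.cEl_inE s), (hgLE a').al_mul (fr.cEl_inE s'), hgLa, al_cEl,
      add_zero] at h1
    obtain rfl := mul_right_cancel₀ hv0 h1
    exact Prod.ext rfl (fr.cEl_injective (mul_left_cancel he'))
  let ω : V →+ fr.F × fr.F := fr.pr1.prod α
  have hωY : ω.ker ≤ fix ρ Y := by
    rintro v hv x ⟨hx, a, ha, hb⟩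
    have hv1 : fr.pr1 v = 0 := congrArg Prod.fst (hv : ω v = 0)
    have hv2 : α v = 0 := congrArg Prod.snd (hv : ω v = 0)
    exact fr.pr_ext (by rw [hx.q0, ha, hv1, hv2, map_zero, mul_zero, add_zero, add_zero]) (hx.q1 v)
      (by rw [hx.qu, hv1, map_zero, add_zero])
  have hωcard : Nat.card ω.range * Nat.card ω.ker = Nat.card V := by
    rw [← AddSubgroup.index_ker, AddSubgroup.index_mul_card]
  have hfixY : Nat.card ω.ker ≤ Nat.card (fix ρ Y) :=
    Nat.card_le_card_of_injective (fun u : ω.ker => (⟨u, hωY u.2⟩ : fix ρ Y))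
      fun a b e => Subtype.ext (congrArg (fun w : fix ρ Y => (w : V)) e)
  have hωtop : ω.range = ⊤ := by
    refine AddSubgroup.eq_top_of_le_card _ ?_
    rw [Nat.card_prod]
    refine Nat.le_of_mul_le_mul_right ?_ (Nat.card_pos (α := ω.ker))
    rw [hωcard]
    exact le_trans (Nat.mul_le_mul hYcard hfixY) (h.bound hYe)
  have hαs : ∀ c, ∃ u, α u = c := fun c => by
    obtain ⟨u, hu⟩ : ((0 : fr.F), c) ∈ ω.range := hωtop ▸ trivial
    exact ⟨u, congrArg Prod.snd hu⟩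
  have hαx : ∀ x, fr.InE x → (∀ b, α (fr.be x b) = 0) → ∀ v, α (ρ x v) = α v := by
    intro x hx hxb v
    rw [hα, ← al_uP fr g (ρ x v), hx.qu, map_add, al_uP, ← hα, hxb, add_zero]
  by_cases hβ0 : ∀ b, β b = 0
  · -- two root groups fixing a hyperplane
    set L : fr.F → P := fr.lEl with hLdef
    have hk : ∀ c, ∀ v, ρ (L c * g * (L c)⁻¹ * g⁻¹) v = v + fr.ι2 (c * α v) := by
      intro c v
      obtain ⟨w, rfl⟩ : ∃ w, ρ g w = v := ⟨_, act_act_inv ρ g v⟩
      have hgw : ρ g w = w + fr.ι0 (α w) := fr.pr_ext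
        (by rw [hg.q0, hgaz, ← hα, add_zero, map_add, pr0_ι0])
        (by rw [hg.q1]; simp) (by rw [hg.qu, ← hβ, hβ0]; simp)
      have hαg : α (ρ g w) = α w := hαx g hg (fun b => hm' b) w
      rw [mul_assoc, mul_assoc, act_mul, act_mul, act_mul, act_inv_act, hαg, hLdef, lEl_inv]
      obtain ⟨x0, x1, xu⟩ := fr.lEl_act (-c) w
      set z := ρ (fr.lEl (-c)) w
      obtain ⟨y0, y1, yu⟩ := fr.lEl_act c (ρ g z)
      have hαz : α z = α w := by rw [hα, ← al_uP fr g z, xu, al_uP]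
      refine fr.pr_ext ?_ ?_ ?_
      · rw [y0, hg.q0, hgaz, ← hα, hαz, x0, hgw]
        simp
      · rw [y1, hg.q1, hg.q0, hgaz, ← hα, hαz, x0, x1, hgw]
        simp
        ring
      · rw [yu, hg.qu, ← hβ, hβ0, xu, hgw]
        simp
    let Y2 : Subgroup P :=
      { carrier := {x | ∃ a c, ∀ v, ρ x v = v + fr.ι0 (a * α v) + fr.ι2 (c * α v)}
        one_mem' := ⟨0, 0, fun v => by simp⟩
        mul_mem' := by
          rintro x y ⟨a, c, hx⟩ ⟨a', c', hy⟩
          refine ⟨a + a', c + c', fun v => ?_⟩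
          rw [act_mul, hy, hx, map_add α, map_add α, hα, al_ι0, al_ι2, add_zero, add_zero, ← hα,
            add_mul, add_mul, map_add, map_add]
          abel
        inv_mem' := by
          rintro x ⟨a, c, hx⟩
          refine ⟨-a, -c, fun v => ?_⟩
          apply act_injective ρ x
          rw [act_act_inv, hx, map_add α, map_add α, hα, al_ι0, al_ι2, add_zero, add_zero, ← hα,
            neg_mul, neg_mul, map_neg, map_neg]
          abel }
    have hY2e : Elem p Y2 := by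
      refine ⟨fun x hx => ?_, fun x hx y hy => ?_⟩
      · obtain ⟨a, c, hx⟩ := hx
        refine h.faithful _ fun v => ?_
        have hn : ∀ n : ℕ, ρ (x ^ n) v = v + n • (fr.ι0 (a * α v) + fr.ι2 (c * α v)) := by
          intro n
          induction n with
          | zero => simp
          | succ n ih =>
            rw [pow_succ', act_mul, ih, hx, map_add α, map_nsmul α, map_add α, hα, al_ι0, al_ι2,
              add_zero, smul_zero, add_zero, ← hα, succ_nsmul]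
            abel
        rw [hn, fr.ppos, add_zero]
      · obtain ⟨a, c, hx⟩ := hx
        obtain ⟨a', c', hy⟩ := hy
        refine inv_mul_eq_one.1 (h.faithful _ fun v => ?_)
        have e : ρ (x * y) v = ρ (y * x) v := by
          rw [act_mul, act_mul, hy, hx, hx v, hy, map_add α, map_add α, map_add α, map_add α, hα,
            al_ι0, al_ι2, al_ι0, al_ι2]
          simp only [add_zero]
          abel
        rw [act_mul, ← e, act_inv_act]
    have hgL2 : ∀ a v, ρ (gL a) v = v + fr.ι0 (a * α v) + fr.ι2 (0 * α v) := fun a v =>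
      fr.pr_ext (by rw [(hgLE a).q0, hgLa, hgLc]; simp) (by rw [(hgLE a).q1]; simp)
        (by rw [(hgLE a).qu, hgLb, hβ0]; simp)
    have hk2 : ∀ c, L c * g * (L c)⁻¹ * g⁻¹ ∈ Y2 := fun c => ⟨0, c, fun v => by rw [hk]; simp⟩
    have hcard2 : Nat.card fr.F * Nat.card fr.F ≤ Nat.card Y2 := by
      rw [← Nat.card_prod]
      refine Nat.card_le_card_of_injective (fun z : fr.F × fr.F =>
        (⟨gL z.1 * (L z.2 * g * (L z.2)⁻¹ * g⁻¹), mul_mem ⟨z.1, 0, hgL2 z.1⟩ (hk2 z.2)⟩ : Y2)) ?_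
      rintro ⟨a, c⟩ ⟨a', c'⟩ he
      have key : ∀ x y, ρ (gL x * (L y * g * (L y)⁻¹ * g⁻¹)) v0 =
          v0 + fr.ι0 (x * α v0) + fr.ι2 (y * α v0) := fun x y => by
        have e1 : α (v0 + fr.ι2 (y * α v0)) = α v0 := by rw [map_add, hα, al_ι2, add_zero]
        rw [act_mul ρ (gL x), hk, hgL2, e1, zero_mul, map_zero, add_zero]
        abel
      have he' : ρ (gL a * (L c * g * (L c)⁻¹ * g⁻¹)) v0 =
          ρ (gL a' * (L c' * g * (L c')⁻¹ * g⁻¹)) v0 := congrArg (fun x : Y2 => ρ (x : P) v0) he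
      rw [key, key] at he'
      have h0 := congrArg fr.pr0 he'
      have h1 := congrArg fr.pr1 he'
      simp only [map_add, pr0_ι0, pr0_ι2, pr1_ι0, pr1_ι2, add_zero, add_right_inj] at h0 h1
      exact Prod.ext (mul_right_cancel₀ hv0 h0) (mul_right_cancel₀ hv0 h1)
    have hker : α.ker ≤ fix ρ Y2 := by
      rintro v hv x ⟨a, c, hx⟩
      rw [hx, AddMonoidHom.mem_ker.1 hv, mul_zero, mul_zero, map_zero, map_zero, add_zero, add_zero]
    have hαcard : Nat.card α.ker * Nat.card fr.F = Nat.card V := by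
      have e := α.ker.index_mul_card
      rw [AddSubgroup.index_ker, AddMonoidHom.range_eq_top.2 hαs, AddSubgroup.card_top, mul_comm] at e
      exact e
    have hb := h.bound hY2e
    rw [meas] at hb
    have h1 : Nat.card α.ker ≤ Nat.card (fix ρ Y2) :=
      Nat.card_le_card_of_injective (fun u : α.ker => (⟨u, hker u.2⟩ : fix ρ Y2))
        fun a b e => Subtype.ext (congrArg (fun w : fix ρ Y2 => (w : V)) e)
    have h2 := (Nat.mul_le_mul hcard2 h1).trans hb
    rw [← hαcard] at h2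
    have h3 := fr.one_lt_card
    have h4 : 0 < Nat.card α.ker := Nat.card_pos
    nlinarith [Nat.mul_pos h4 (by omega : 0 < Nat.card fr.F)]
  · -- a further element on top of `Y`
    push Not at hβ0
    obtain ⟨b0, hb0⟩ := hβ0
    set L := fr.lEl 1 with hLdef
    set g1 := L * g * L⁻¹ with hg1
    have hg1a : ∀ v, fr.pr0 (ρ g1 v) = fr.pr0 v + α v ∧ fr.pr1 (ρ g1 v) = fr.pr1 v + α v ∧
        fr.uP (ρ g1 v) = fr.uP v + β (fr.pr1 v - fr.pr0 v) := by
      intro v
      rw [hg1, hLdef, lEl_inv, act_mul, act_mul]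
      obtain ⟨x0, x1, xu⟩ := fr.lEl_act (-1) v
      set z := ρ (fr.lEl (-1)) v
      obtain ⟨y0, y1, yu⟩ := fr.lEl_act 1 (ρ g z)
      have hαz : α z = α v := by rw [hα, ← al_uP fr g z, xu, al_uP]
      refine ⟨?_, ?_, ?_⟩
      · rw [y0, hg.q0, hgaz, ← hα, hαz, x0, add_zero]
      · rw [y1, hg.q1, hg.q0, hgaz, ← hα, hαz, x0, x1]
        ring
      · rw [yu, hg.qu, xu, x1, ← hβ]
        congr 2
        ring
    clear_value g1
    set e := g1 * g * (g * g1)⁻¹ with hedef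
    have he : ∀ y, ρ e y = y - β (α y + α y) := by
      intro y
      obtain ⟨v, rfl⟩ : ∃ v, ρ (g * g1) v = y := ⟨_, act_act_inv ρ (g * g1) y⟩
      rw [hedef, act_mul, act_inv_act]
      have ha1 : ∀ w, α (ρ g1 w) = α w := fun w => by
        rw [hα, ← al_uP fr g (ρ g1 w), (hg1a w).2.2, map_add, al_uP, hm', add_zero]
      have hag : ∀ w, α (ρ g w) = α w := fun w => hαx g hg hm' w
      have hay : α (ρ (g * g1) v) = α v := by rw [act_mul, hag, ha1]
      rw [hay, act_mul, act_mul]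
      refine fr.pr_ext ?_ ?_ ?_
      · rw [map_sub, hβ, pr0_be, sub_zero, (hg1a _).1, hg.q0, hg.q0, (hg1a _).1, hgaz, hgaz, ← hα,
          hag, ha1]
        ring
      · rw [map_sub, hβ, pr1_be, sub_zero, (hg1a _).2.1, hg.q1, hg.q1, (hg1a _).2.1, hag]
      · rw [map_sub, hβ, uP_be, ← hβ, (hg1a _).2.2, hg.qu, hg.qu, (hg1a _).2.2, hg.q0, hg.q1, hgaz,
          ← hα, (hg1a _).2.1]
        simp only [map_add, map_sub, add_zero, ← hβ]
        abel
    clear_value e
    have hα1 : ∀ w, α (β w) = 0 := hm'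
    have hee : Elem p (Subgroup.zpowers e) := by
      have hep : e ^ p = 1 := by
        refine h.faithful _ fun v => ?_
        have hn : ∀ n : ℕ, ρ (e ^ n) v = v - n • β (α v + α v) := by
          intro n
          induction n with
          | zero => simp
          | succ n ih =>
            rw [pow_succ', act_mul, ih, he, map_sub α, map_nsmul α, hα1, smul_zero, sub_zero,
              succ_nsmul]
            abel
        rw [hn, fr.ppos, sub_zero]
      refine ⟨fun a ha => ?_, fun a ha b hb => ?_⟩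
      · obtain ⟨i, rfl⟩ := Subgroup.mem_zpowers_iff.1 ha
        rw [← zpow_natCast, ← _root_.zpow_mul, mul_comm, _root_.zpow_mul, zpow_natCast, hep, _root_.one_zpow]
      · obtain ⟨i, rfl⟩ := Subgroup.mem_zpowers_iff.1 ha
        obtain ⟨j, rfl⟩ := Subgroup.mem_zpowers_iff.1 hb
        rw [← _root_.zpow_add, ← _root_.zpow_add, add_comm]
    have hcomm : ∀ x ∈ Y, ∀ y ∈ Subgroup.zpowers e, x * y = y * x := by
      intro x hx
      have hxe : Commute x e := by
        refine inv_mul_eq_one.1 (h.faithful _ fun v => ?_)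
        obtain ⟨hxE, a, ha, hb⟩ := hx
        have hxv : α (ρ x v) = α v := hαx x hxE (fun b => by rw [hb, hα1]) v
        have hxβ : ρ x (β (α v + α v)) = β (α v + α v) := by
          refine hωY ?_ x ⟨hxE, a, ha, hb⟩
          exact Prod.ext (by simp [ω, hβ]) (by simp [ω, hα1])
        have e1 : ρ (x * e) v = ρ (e * x) v := by
          rw [act_mul, act_mul, he, he, hxv, map_sub, hxβ]
        rw [act_mul, ← e1, act_inv_act]
      intro y hy
      obtain ⟨i, rfl⟩ := Subgroup.mem_zpowers_iff.1 hy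
      exact (hxe.zpow_right i).eq
    have hsup := hYe.sup hee hcomm
    have heY : e ∉ Y := by
      rintro ⟨hE, -⟩
      obtain ⟨u, hu⟩ := hαs ((2 : fr.F)⁻¹ * b0)
      have h1 := hE.fixU u
      rw [he, map_sub, hβ, uP_be, ← hβ, uP_uP, sub_eq_self, hα, al_uP, ← hα, hu, ← two_mul,
        ← mul_assoc, mul_inv_cancel₀ fr.two_ne, one_mul] at h1
      exact hb0 h1
    have hlt : Nat.card Y < Nat.card ↥(Y ⊔ Subgroup.zpowers e) := by
      by_contra hle
      push Not at hle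
      have := Subgroup.eq_of_le_of_card_ge (le_sup_left : Y ≤ Y ⊔ Subgroup.zpowers e) hle
      exact heY (this ▸ Subgroup.mem_sup_right (Subgroup.mem_zpowers e))
    have hker : ω.ker ≤ fix ρ (Y ⊔ Subgroup.zpowers e) := by
      intro v hv
      have h1 : Y ⊔ Subgroup.zpowers e ≤ stab ρ v := sup_le (fun x hx => hωY hv x hx)
        ((Subgroup.zpowers_le).2 (by
          show ρ e v = v
          rw [he, show α v = 0 from congrArg Prod.snd (hv : ω v = 0), add_zero, map_zero, sub_zero]))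
      exact fun x hx => h1 hx
    have hb := h.bound hsup
    rw [meas] at hb
    have h1 : Nat.card ω.ker ≤ Nat.card (fix ρ (Y ⊔ Subgroup.zpowers e)) :=
      Nat.card_le_card_of_injective (fun u : ω.ker => (⟨u, hker u.2⟩ : fix ρ (Y ⊔ Subgroup.zpowers e)))
        fun a b e' => Subtype.ext (congrArg (fun w : fix ρ (Y ⊔ Subgroup.zpowers e) => (w : V)) e')
    rw [hωtop, AddSubgroup.card_top, Nat.card_prod] at hωcard
    have h4 : 0 < Nat.card ω.ker := Nat.card_pos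
    have h5 := Nat.mul_lt_mul_of_lt_of_le (hYcard.trans_lt hlt) h1 (h4.trans_le h1)
    omega

theorem inE_mem (h : Hyp ρ p T M) {g : P} (hg : fr.InE g) : g ∈ C := by
  set x := fr.τ * g * fr.τ⁻¹ * g⁻¹ with hxdef
  have hx : x = 1 := by
    refine fr.inverted_eq_one h ((fr.inE_conj_τ hg).mul hg.inv) ?_
    rw [hxdef, fr.τ_inv]
    simp only [_root_.mul_inv_rev, inv_inv, fr.τ_inv, mul_assoc]
    rw [← mul_assoc fr.τ fr.τ, fr.τ_mul_self, one_mul]
  have e : fr.τ * g * fr.τ⁻¹ = g := mul_inv_eq_one.1 hx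
  obtain ⟨s, -, hs⟩ := fr.mem_of_al h hg fun v => by
    have e1 := (fr.conj_τ_data hg).1 v
    rw [e] at e1
    have e2 : (2 : fr.F) * fr.al g v = 0 := by rw [two_mul]; exact eq_neg_iff_add_eq_zero.1 e1
    exact (mul_eq_zero.1 e2).resolve_left fr.two_ne
  exact hs

theorem norm_W {d : P} (hd : d ∈ Subgroup.normalizer (C : Set P)) {v : V} (hv : fr.pr1 v = 0) :
    fr.pr1 (ρ d v) = 0 := by
  rw [← fr.mem_fix_iff] at hv ⊢
  intro c hc
  apply act_injective ρ d⁻¹
  rw [act_inv_act, ← act_mul, ← act_mul]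
  have h1 : d⁻¹ * (c * d) ∈ C := by
    have := (Subgroup.mem_normalizer_iff''.1 hd c).1 hc
    simpa [mul_assoc] using this
  exact hv _ (by rw [mul_assoc]; exact h1)

theorem norm_W0 {d : P} (hd : d ∈ Subgroup.normalizer (C : Set P)) (a : fr.F) :
    ∃ a', ρ d (fr.ι0 a) = fr.ι0 a' := by
  have h1 : d * fr.cEl 1 * d⁻¹ ∈ C := (Subgroup.mem_normalizer_iff.1 hd _).1 (fr.cEl_mem 1)
  obtain ⟨s, hs⟩ := fr.exists_cEl h1
  refine ⟨s * fr.pr1 (ρ d (fr.ι2 a)), ?_⟩
  have e : fr.ι0 a = ρ (fr.cEl 1) (fr.ι2 a) - fr.ι2 a := by simp [cEl_act]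
  have e2 := congrArg (fun x => ρ x (ρ d (fr.ι2 a))) hs
  simp only [act_mul, act_inv_act, cEl_act] at e2
  rw [e, map_sub, cEl_act, e2, add_sub_cancel_left]

theorem normalizer_comm_τ (h : Hyp ρ p T M) {d : P} (hd : d ∈ Subgroup.normalizer (C : Set P)) :
    fr.τ * d = d * fr.τ := by
  set c := d * fr.τ * d⁻¹ * fr.τ with hc
  have hcE : fr.InE c := by
    refine ⟨fun a => ?_, fun v => ?_, fun v => ?_⟩
    · obtain ⟨a', ha'⟩ := fr.norm_W0 (inv_mem hd) a
      rw [hc, act_mul, act_mul, act_mul, τ_ι0, map_neg, ha', map_neg, τ_ι0, neg_neg, ← ha',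
        act_act_inv]
    · rw [hc, act_mul, act_mul, act_mul, τ_uP]
      set w := ρ d⁻¹ (fr.uP v) with hw
      have hw1 : fr.pr1 w = 0 := fr.norm_W (inv_mem hd) (fr.pr1_uP v)
      have e : ρ fr.τ w = w - fr.ι0 (fr.pr0 w + fr.pr0 w) :=
        fr.pr_ext (by simp [pr0_τ]) (by simp [pr1_τ, hw1]) (by simp [uP_τ])
      obtain ⟨a', ha'⟩ := fr.norm_W0 hd (fr.pr0 w + fr.pr0 w)
      rw [e, map_sub, ha', hw, act_act_inv, map_sub, uP_ι0, sub_zero, uP_uP]
    · rw [hc, act_mul, act_mul, act_mul]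
      set y := ρ d⁻¹ (ρ fr.τ v) with hy
      have h0 : fr.pr1 (ρ d (y + ρ fr.τ y)) = 0 := fr.norm_W hd (by rw [map_add, pr1_τ, add_neg_cancel])
      rw [map_add, map_add, hy, act_act_inv, pr1_τ] at h0
      linear_combination h0
  obtain ⟨s, hs⟩ := fr.exists_cEl (fr.inE_mem h hcE)
  have hcomm : fr.τ * c * fr.τ⁻¹ = c := by
    rw [mul_inv_eq_iff_eq_mul, fr.τ_comm (fr.le (fr.inE_mem h hcE))]
  have hinv : fr.τ * c * fr.τ⁻¹ = c⁻¹ := by
    rw [hc]
    simp only [_root_.mul_inv_rev, inv_inv, fr.τ_inv, mul_assoc]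
    rw [fr.τ_mul_self, mul_one]
  rw [hcomm] at hinv
  have h1 : c = 1 := by
    have hcc : c * c = 1 := by nth_rewrite 2 [hinv]; exact mul_inv_cancel c
    rw [hs] at hcc ⊢
    have e := congrArg (fun x => fr.ga x 1) hcc
    simp only [(fr.cEl_inE s).ga_mul (fr.cEl_inE s), ga_cEl, be_cEl, map_zero, ga_one, mul_one,
      add_zero] at e
    have e2 : (2 : fr.F) * s = 0 := by rw [two_mul]; exact e
    rw [(mul_eq_zero.1 e2).resolve_left fr.two_ne, cEl, uni_zero, map_one, Subgroup.coe_one]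
  rw [hc] at h1
  have h2 : d * fr.τ * d⁻¹ = fr.τ := (mul_eq_one_iff_eq_inv.1 h1).trans fr.τ_inv
  exact (mul_inv_eq_iff_eq_mul.1 h2).symm

end Global

end Frame

end CfsgLib.FocalOdd
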