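import Cfsg.Agent.Lib.FocalOdd.Functor
import Cfsg.Agent.Lib.ConjFunctor.TransferCritical

/-!
# A minimal group in which the Baumann functors fail to control transfer
-/

set_option autoImplicit false
set_option linter.unusedSectionVars false
set_option linter.style.haveILetI false

open scoped commutatorElement

namespace CfsgLib.FocalOdd

open CfsgLib.ConjFunctor

universe u

variable {p : ℕ} [Fact p.Prime] {G : Type u} [Group G] [Finite G]

/-- A minimal failure. -/
structure Crit (p : ℕ) [Fact p.Prime] (G : Type u) [Group G] (S : Sylow p G) (M : Subgroup G) :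
    Prop where
  odd : p ≠ 2
  proper : ProperControl p (fam.{u} p) G
  bad : ¬ Cfsg.pCore p G ⊓ commutator G ≤ tgt (fam.{u} p) (S : Subgroup G)
  con : Constrained p G
  Mne : M ≠ ⊤
  Muniq : ∀ H : Subgroup G, (S : Subgroup G) ≤ H → H ≠ ⊤ → H ≤ M
  Mdef : M = Subgroup.normalizer
    ((tgt (fam.{u} p) (S : Subgroup G) ⊓ Cfsg.pCore p G : Subgroup G) : Set G)
  engel : ∀ u : G, u ∈ (S : Subgroup G) → u ∉ Cfsg.pCore p G → ∃ U V : Subgroup G,
    Cfsg.IsChiefFactor U V ∧ U ≤ Cfsg.pCore p G ∧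
      ¬ Cfsg.iterCommutator U (Subgroup.zpowers u) (p - 1) ≤ V

namespace Crit

variable {S : Sylow p G} {M : Subgroup G}

theorem not_normal (h : Crit p G S M) {W : ∀ (Q : Type u) [Group Q], Subgroup Q}
    (hW : W ∈ fam.{u} p) : ¬ (Cfsg.inducedFunctor W (S : Subgroup G)).Normal := by
  intro hn
  refine h.bad (le_trans ?_ (le_iSup₂_of_le W hW le_rfl))
  haveI := hn
  rw [Subgroup.normalizer_eq_top, ← commutator_def]
  exact inf_le_inf_right _ (CfsgLib.Solvable.pCore_le_sylow S)

theorem T_comm_le (h : Crit p G S M) {L : Subgroup G} (hL : L ≤ M) :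
    (S : Subgroup G) ⊓ ⁅L, L⁆ ≤ tgt (fam.{u} p) (S : Subgroup G) := by
  have hSM : (S : Subgroup G) ≤ M := h.Muniq _ le_rfl fun he => h.bad (by
    refine le_trans inf_le_right ?_
    rw [commutator_def, ← he]
    refine le_trans (le_inf (Subgroup.commutator_le_self _) ?_)
      (le_iSup₂_of_le _ (zFun_mem p) le_rfl)
    have hN : (S : Subgroup G) ≤ Subgroup.normalizer
        ((Cfsg.inducedFunctor (zFun.{u} p) (S : Subgroup G) : Subgroup G) : Set G) :=
      (normalizer_le_functor (isConjugacyFunctor_inducedFunctor (fam_isCharP _ (zFun_mem p)))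
        S.isPGroup').trans' Subgroup.le_normalizer
    exact Subgroup.commutator_mono hN hN)
  exact (inf_le_inf_left _ (Subgroup.commutator_mono hL hL)).trans
    (inf_commutator_le_tgt_of_proper fam_isCharP h.proper S hSM h.Mne)

theorem S_le (h : Crit p G S M) : (S : Subgroup G) ≤ M := by
  refine h.Muniq _ le_rfl fun he => h.not_normal (zFun_mem p) ?_
  exact normal_inducedFunctor_of_normal (fam_isCharP _ (zFun_mem p)) S.isPGroup'
    (by rw [he]; infer_instance)

theorem P_le (S : Sylow p G) : Cfsg.pCore p G ≤ (S : Subgroup G) :=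
  CfsgLib.Solvable.pCore_le_sylow S

theorem z0_le_P (h : Crit p G S M) :
    Cfsg.omegaOneCenter p (S : Subgroup G) ≤ Cfsg.pCore p G := fun x hx => by
  obtain ⟨-, hc, -⟩ := omegaOneCenter_spec hx
  exact h.con (Subgroup.mem_centralizer_iff.2 fun y hy => hc y (P_le S hy))

theorem cent_z0_le (h : Crit p G S M) :
    Subgroup.centralizer (Cfsg.omegaOneCenter p (S : Subgroup G) : Set G) ≤ M := by
  refine h.Muniq _ (fun s hs => Subgroup.mem_centralizer_iff.2 fun z hz =>
    ((omegaOneCenter_spec hz).2.1 s hs).symm) fun he => h.not_normal (zFun_mem p) ?_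
  rw [inducedFunctor_zFun]
  refine ⟨fun z hz g => ?_⟩
  have e := Subgroup.mem_centralizer_iff.1 (he.ge (Subgroup.mem_top g)) z hz
  rw [← e, mul_inv_cancel_right]
  exact hz

/-- Characteristic subgroups of `B(S)` are not normal. -/
theorem not_normal_baumann (h : Crit p G S M)
    {V : Subgroup ↥(Cfsg.baumannSubgroupOf p (S : Subgroup G))} (hV : V.Characteristic)
    (hV1 : V ≠ ⊥) : ¬ (V.map (Cfsg.baumannSubgroupOf p (S : Subgroup G)).subtype).Normal := by
  have h1 := h.not_normal (W := baumFun p (transportFun V))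
    (Set.mem_insert_of_mem _ ⟨_, isCharPFunctor_transportFun hV hV1, rfl⟩)
  rw [inducedFunctor_baumFun (isCharPFunctor_transportFun hV hV1) S.isPGroup'] at h1
  convert h1 using 2
  show _ = (transportFun V _).map _
  rw [transportFun_equiv hV (MulEquiv.refl _)]
  congr 1
  exact (Subgroup.map_id V).symm

theorem J_le_B (S : Sylow p G) :
    Cfsg.thompsonSubgroupOf p (S : Subgroup G) ≤ Cfsg.baumannSubgroupOf p (S : Subgroup G) :=
  le_inf (CfsgLib.PLocal.thompsonSubgroupOf_le p _) fun j hj z hz =>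
    ((CfsgLib.PLocal.omegaOne_le p _ hz).2 j hj).symm

theorem not_normal_J (h : Crit p G S M) :
    ¬ (Cfsg.thompsonSubgroupOf p (S : Subgroup G)).Normal := by
  set B := Cfsg.baumannSubgroupOf p (S : Subgroup G) with hB
  intro hn
  have hS : (S : Subgroup G) ≠ ⊥ := fun he => h.bad (by
    refine le_trans inf_le_left ?_
    rw [show Cfsg.pCore p G = ⊥ from le_bot_iff.1 (he ▸ P_le S)]
    exact bot_le)
  have hJB : Cfsg.thompsonSubgroupOf p B = Cfsg.thompsonSubgroupOf p (S : Subgroup G) :=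
    CfsgLib.PLocal.thompsonSubgroupOf_eq_of_le inf_le_left (J_le_B S)
  refine h.not_normal_baumann (V := Cfsg.thompsonSubgroup p B)
    CfsgLib.PLocal.thompsonSubgroup_characteristic ?_ (by
      show (Cfsg.thompsonSubgroupOf p B).Normal
      rw [hJB]; exact hn)
  refine CfsgLib.PLocal.thompsonSubgroup_ne_bot ?_
  haveI : Nontrivial (S : Subgroup G) := (Subgroup.nontrivial_iff_ne_bot _).2 hS
  obtain ⟨z, hz1, hzp, hzc⟩ := exists_center_order S.isPGroup' inferInstance
  have hzB : (z : G) ∈ B := ⟨z.2, Subgroup.mem_centralizer_iff.2 fun y hy =>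
    congrArg Subtype.val
      (hzc ⟨y, CfsgLib.PLocal.thompsonSubgroupOf_le p _ (CfsgLib.PLocal.omegaOne_le p _ hy).1⟩)⟩
  have ho : orderOf (⟨(z : G), hzB⟩ : B) = p := by
    rw [Subgroup.orderOf_mk, Subgroup.orderOf_coe]
    exact orderOf_eq_prime hzp hz1
  rw [← ho]
  exact orderOf_dvd_natCard _

theorem normalizer_J_le (h : Crit p G S M) :
    Subgroup.normalizer (Cfsg.thompsonSubgroupOf p (S : Subgroup G) : Set G) ≤ M :=
  h.Muniq _ (Subgroup.le_normalizer.trans
    (CfsgLib.PLocal.normalizer_le_normalizer_thompsonSubgroupOf _))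
    fun he => h.not_normal_J (Subgroup.normalizer_eq_top_iff.1 he)

theorem not_J_le_P (h : Crit p G S M) :
    ¬ Cfsg.thompsonSubgroupOf p (S : Subgroup G) ≤ Cfsg.pCore p G := by
  intro hle
  refine h.not_normal_J ?_
  rw [← CfsgLib.PLocal.thompsonSubgroupOf_eq_of_le (P_le S) hle]
  haveI := CfsgLib.Solvable.pCore_normal p G
  refine Subgroup.normalizer_eq_top_iff.1 (top_le_iff.1 ?_)
  refine le_trans ?_ (CfsgLib.PLocal.normalizer_le_normalizer_thompsonSubgroupOf _)
  rw [Subgroup.normalizer_eq_top]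

/-- Control inside a proper subgroup containing `B(S)`, with Sylow subgroup `S ∩ L`. -/
theorem inf_comm_le (h : Crit p G S M) {L : Subgroup G} (hL : L ≠ ⊤)
    (hBL : Cfsg.baumannSubgroupOf p (S : Subgroup G) ≤ L)
    (hsyl : IsSyl p ((S : Subgroup G) ⊓ L) L)
    (hz : (S : Subgroup G) ⊓ ⁅L ⊓ Subgroup.normalizer
        ((Cfsg.omegaOneCenter p ((S : Subgroup G) ⊓ L) : Subgroup G) : Set G),
      L ⊓ Subgroup.normalizer ((Cfsg.omegaOneCenter p ((S : Subgroup G) ⊓ L) : Subgroup G) : Set G)⁆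
        ≤ tgt (fam.{u} p) (S : Subgroup G)) :
    (S : Subgroup G) ⊓ L ⊓ ⁅L, L⁆ ≤ tgt (fam.{u} p) (S : Subgroup G) := by
  set R := (S : Subgroup G) ⊓ L with hR
  set B := Cfsg.baumannSubgroupOf p (S : Subgroup G) with hB
  have hBR : B ≤ R := le_inf inf_le_left hBL
  have hJR : Cfsg.thompsonSubgroupOf p R = Cfsg.thompsonSubgroupOf p (S : Subgroup G) :=
    CfsgLib.PLocal.thompsonSubgroupOf_eq_of_le inf_le_left ((J_le_B S).trans hBR)
  have hBBR : Cfsg.baumannSubgroupOf p R = B := by
    refine le_antisymm ?_ (le_inf hBR ?_)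
    · rw [hB, Cfsg.baumannSubgroupOf, Cfsg.baumannSubgroupOf, Cfsg.centerThompsonOf,
        Cfsg.centerThompsonOf, hJR]
      exact inf_le_inf_right _ inf_le_left
    · rw [hB, Cfsg.baumannSubgroupOf, Cfsg.centerThompsonOf, Cfsg.centerThompsonOf, hJR]
      exact inf_le_right
  obtain ⟨S', hS'T, hS'⟩ := exists_sylow_map hsyl
  have hcard : Nat.card ↥L < Nat.card G :=
    (Subgroup.card_le_card_group L).lt_of_ne fun he => hL (Subgroup.eq_top_of_card_eq L he)
  have h1 := h.proper ↥L (isSec_self.subgroup L) hcard S'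
  rintro x ⟨hxT, hxc⟩
  rw [← Subgroup.range_subtype L, MonoidHom.range_eq_map, ← Subgroup.map_commutator,
    ← commutator_def] at hxc
  obtain ⟨y, hy, rfl⟩ := hxc
  have hyS : y ∈ (S' : Subgroup L) := by rw [hS']; exact hxT
  refine SetLike.le_def.1 ?_ (Subgroup.mem_map_of_mem L.subtype (h1 ⟨hyS, hy⟩))
  rw [tgt, Subgroup.map_iSup]
  refine iSup_le fun W => ?_
  rw [Subgroup.map_iSup]
  refine iSup_le fun hW => ?_
  rw [Subgroup.map_inf _ _ _ L.subtype_injective, Subgroup.map_commutator, hS'T]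
  have hN : (Subgroup.normalizer ((Cfsg.inducedFunctor W (S' : Subgroup L) : Subgroup L) :
      Set L)).map L.subtype ≤ L ⊓ Subgroup.normalizer
        ((Cfsg.inducedFunctor W R : Subgroup G) : Set G) := by
    refine le_inf (Subgroup.map_subtype_le _) ((Subgroup.le_normalizer_map L.subtype).trans ?_)
    rw [← inducedFunctor_subtype (fam_isCharP W hW) L _ S'.isPGroup', hS'T]
  refine (inf_le_inf (inf_le_left : R ≤ (S : Subgroup G)) (Subgroup.commutator_mono hN hN)).trans ?_
  rcases hW with rfl | ⟨W₀, hW₀, rfl⟩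
  · rw [inducedFunctor_zFun]
    exact hz
  · have hRS : IsPGroup p R := S.isPGroup'.to_le inf_le_left
    rw [inducedFunctor_baumFun hW₀ hRS, hBBR, hB, ← inducedFunctor_baumFun hW₀ S.isPGroup']
    exact (inf_le_inf_left _ (Subgroup.commutator_mono inf_le_right inf_le_right)).trans
      (le_iSup₂_of_le _ (Set.mem_insert_of_mem _ ⟨W₀, hW₀, rfl⟩) le_rfl)

theorem overgroup_aux (h : Crit p G S M) :
    ∀ n, ∀ L : Subgroup G, Nat.card L < n → L ≠ ⊤ → Cfsg.pCore p G ≤ L →
      Cfsg.baumannSubgroupOf p (S : Subgroup G) ≤ L → L ≤ M := by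
  intro n
  induction n with
  | zero => intro L hc; omega
  | succ n ih =>
    intro L hc hL hPL hBL
    haveI hPn := CfsgLib.Solvable.pCore_normal p G
    set P := Cfsg.pCore p G
    set B := Cfsg.baumannSubgroupOf p (S : Subgroup G) with hB
    set J := Cfsg.thompsonSubgroupOf p (S : Subgroup G) with hJ
    have hPBp : IsPGroup p (P ⊔ B : Subgroup G) := S.isPGroup'.to_le (sup_le (P_le S) inf_le_left)
    obtain ⟨R₀, hR₀⟩ := (hPBp.of_equiv (Subgroup.subgroupOfEquivOfLe (sup_le hPL hBL)).symm).exists_le_sylow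
    set R := (R₀ : Subgroup L).map L.subtype with hR
    have hBR : P ⊔ B ≤ R := fun x hx => ⟨⟨x, sup_le hPL hBL hx⟩, hR₀ hx, rfl⟩
    obtain ⟨S₁, hS₁⟩ := (R₀.isPGroup'.map L.subtype).exists_le_sylow
    obtain ⟨c, hcS⟩ := MulAction.exists_smul_eq G S₁ S
    set cc := (MulAut.conj c).toMonoidHom with hcc
    have hRS : R.map cc ≤ (S : Subgroup G) := by
      rw [← hcS, Sylow.coe_subgroup_smul]
      exact Subgroup.map_mono hS₁
    have hJR : J ≤ R := ((J_le_B S).trans le_sup_right).trans hBR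
    have hJc : J.map cc = J := by
      refine Subgroup.eq_of_le_of_card_ge ?_
        (Subgroup.card_map_of_injective (MulAut.conj c).injective).ge
      rw [hJ, CfsgLib.PLocal.thompsonSubgroupOf_eq, Subgroup.map_le_iff_le_comap]
      refine sSup_le fun A hA => ?_
      rw [← Subgroup.map_le_iff_le_comap]
      refine le_sSup ⟨(Subgroup.map_mono (((le_sSup hA).trans
        (CfsgLib.PLocal.thompsonSubgroupOf_eq p (S : Subgroup G)).ge).trans hJR)).trans hRS,
        CfsgLib.PLocal.isEA_map hA.2.1 _, fun C hC hCe => ?_⟩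
      rw [Subgroup.card_map_of_injective (MulAut.conj c).injective]
      exact hA.2.2 C hC hCe
    have hcM : c ∈ M := h.normalizer_J_le (CfsgLib.PLocal.mem_normalizer_of_map_conj_eq hJc)
    have hBc : B.map cc = B := by
      refine Subgroup.eq_of_le_of_card_ge ?_
        (Subgroup.card_map_of_injective (MulAut.conj c).injective).ge
      refine le_inf ((Subgroup.map_mono (le_sup_right.trans hBR)).trans hRS) ?_
      have hX : (Cfsg.omegaOne p (Cfsg.centerThompsonOf p (S : Subgroup G))).map cc =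
          Cfsg.omegaOne p (Cfsg.centerThompsonOf p (S : Subgroup G)) := by
        rw [Cfsg.centerThompsonOf, CfsgLib.PLocal.omegaCenter_map (f := cc) (MulAut.conj c).injective,
          ← hJ, hJc]
      rw [Subgroup.map_le_iff_le_comap]
      intro b hb
      rw [Subgroup.mem_comap, ← hX, Subgroup.mem_centralizer_iff]
      rintro _ ⟨z, hz, rfl⟩
      rw [← map_mul, ← map_mul, Subgroup.mem_centralizer_iff.1 hb.2 z hz]
    -- move `L`
    suffices hL' : L.map cc ≤ M by
      intro x hx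
      have h1 : c * x * c⁻¹ ∈ M := hL' ⟨x, hx, rfl⟩
      have h2 := mul_mem (mul_mem (inv_mem hcM) h1) hcM
      simpa [mul_assoc] using h2
    have hPL' : P ≤ L.map cc := by
      intro x hx
      exact ⟨c⁻¹ * x * c, hPL (by simpa using hPn.conj_mem x hx c⁻¹), by simp [hcc, mul_assoc]⟩
    have hBL' : B ≤ L.map cc := hBc.ge.trans (Subgroup.map_mono hBL)
    have hc' : Nat.card ↥(L.map cc) ≤ n := by
      rw [Subgroup.card_map_of_injective (MulAut.conj c).injective]; omega
    have hLtop : L.map cc ≠ ⊤ := fun he => hL (Subgroup.eq_top_of_card_eq L (by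
      rw [← Subgroup.card_map_of_injective (f := cc) (MulAut.conj c).injective, he, Subgroup.card_top]))
    set L' := L.map cc with hL'def
    have hsyl : IsSyl p ((S : Subgroup G) ⊓ L') L' := by
      refine ⟨inf_le_right, S.isPGroup'.to_le inf_le_left, fun hd => ?_⟩
      have h1 : R.map cc ≤ (S : Subgroup G) ⊓ L' := le_inf hRS (Subgroup.map_mono (Subgroup.map_subtype_le _))
      have h2 := hd.trans (Subgroup.relIndex_dvd_of_le_left L' h1)
      rw [hL'def, Subgroup.relIndex_map_map_of_injective _ _ (MulAut.conj c).injective, hR] at h2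
      have h3 : ((R₀ : Subgroup L).map L.subtype).relIndex L = (R₀ : Subgroup L).index := by
        rw [Subgroup.relIndex, Subgroup.subgroupOf, Subgroup.comap_map_eq_self_of_injective L.subtype_injective]
      rw [h3] at h2
      exact R₀.not_dvd_index h2
    set R' := (S : Subgroup G) ⊓ L' with hR'
    have hBR' : B ≤ R' := le_inf inf_le_left hBL'
    have hPR' : P ≤ R' := le_inf (P_le S) hPL'
    have hSN : R' ≤ Subgroup.normalizer ((Cfsg.omegaOneCenter p R' : Subgroup G) : Set G) := by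
      intro r hr
      refine CfsgLib.PLocal.mem_normalizer_of_map_conj_eq ?_
      rw [omegaOneCenter_map (MulAut.conj r).injective,
        CfsgLib.PLocal.map_conj_eq_of_mem_normalizer (Subgroup.le_normalizer hr)]
    set N := L' ⊓ Subgroup.normalizer ((Cfsg.omegaOneCenter p R' : Subgroup G) : Set G) with hN
    suffices hNM : N ≤ M by
      by_cases he : N = L'
      · exact he ▸ hNM
      · have h1 := h.inf_comm_le hLtop hBL' hsyl (h.T_comm_le hNM)
        rw [h.Mdef, Subgroup.le_normalizer_iff_commutator_le_right, Subgroup.commutator_comm]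
        refine le_trans ?_ (le_inf (le_trans (le_inf (le_inf ?_ ?_) ?_) h1) (Subgroup.commutator_le_left P L'))
        · exact Subgroup.commutator_mono inf_le_right le_rfl
        · exact (Subgroup.commutator_le_left P L').trans (P_le S)
        · exact (Subgroup.commutator_le_left P L').trans hPL'
        · exact Subgroup.commutator_mono hPL' le_rfl
    by_cases he : N = L'
    · -- `L'` normalizes `Ω₁(Z(R'))`
      rw [he]
      set C := L' ⊓ Subgroup.centralizer ((Cfsg.omegaOneCenter p R' : Subgroup G) : Set G) with hC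
      have hCM : C ≤ M := by
        refine (inf_le_right.trans (Subgroup.centralizer_le fun z hz => ?_)).trans h.cent_z0_le
        obtain ⟨-, hc1, hc2⟩ := omegaOneCenter_spec hz
        exact mem_omegaOneCenter_of (hPR' (h.z0_le_P hz)) (fun y hy => hc1 y hy.1) hc2
      obtain ⟨S₂, hS₂T, -⟩ := exists_sylow_map hsyl
      haveI : (C.subgroupOf L').Normal := by
        refine ⟨fun x hx g => Subgroup.mem_subgroupOf.2 ⟨(g * x * g⁻¹).2,
          Subgroup.mem_centralizer_iff.2 fun z hz => ?_⟩⟩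
        have hg : (g : G) ∈ Subgroup.normalizer ((Cfsg.omegaOneCenter p R' : Subgroup G) : Set G) :=
          (he.ge g.2).2
        have hz' := (Subgroup.mem_normalizer_iff''.1 hg z).1 hz
        have e := Subgroup.mem_centralizer_iff.1 (Subgroup.mem_subgroupOf.1 hx).2 _ hz'
        simp only [Subgroup.coe_mul, Subgroup.coe_inv]
        calc z * ((g : G) * x * (g : G)⁻¹) = (g : G) * ((g : G)⁻¹ * z * g * x) * (g : G)⁻¹ := by group
          _ = (g : G) * (x * ((g : G)⁻¹ * z * g)) * (g : G)⁻¹ := by rw [e]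
          _ = (g : G) * x * (g : G)⁻¹ * z := by group
      intro x hx
      obtain ⟨c₁, hc₁, hn⟩ := frattini_argument S₂ (C.subgroupOf L') ⟨x, hx⟩
      have hS₂C : (S₂ : Subgroup L') ≤ C.subgroupOf L' := by
        intro r hr
        have hrR : (r : G) ∈ R' := hS₂T.le ⟨r, hr, rfl⟩
        exact Subgroup.mem_subgroupOf.2 ⟨r.2, Subgroup.mem_centralizer_iff.2 fun z hz =>
          ((omegaOneCenter_spec hz).2.1 r hrR).symm⟩
      rw [inf_eq_left.2 hS₂C] at hn
      have h1 : ((c₁ * ⟨x, hx⟩ : L') : G) ∈ Subgroup.normalizer (R' : Set G) := by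
        have h2 := Subgroup.le_normalizer_map L'.subtype ⟨_, hn, rfl⟩
        rwa [hS₂T] at h2
      have h2 := CfsgLib.PLocal.normalizer_le_normalizer_thompsonSubgroupOf (p := p) _ h1
      rw [CfsgLib.PLocal.thompsonSubgroupOf_eq_of_le (U := R') inf_le_left ((J_le_B S).trans hBR')] at h2
      have h3 := mul_mem (inv_mem (hCM (Subgroup.mem_subgroupOf.1 hc₁))) (h.normalizer_J_le h2)
      simpa using h3
    · refine ih N ?_ (fun ht => he (le_antisymm inf_le_left (ht ▸ le_top)))
        (le_inf hPL' (hPR'.trans hSN)) (le_inf hBL' (hBR'.trans hSN))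
      refine lt_of_lt_of_le (lt_of_not_ge fun hge => he ?_) hc'
      exact Subgroup.eq_of_le_of_card_ge inf_le_left hge

/-- Proper subgroups over `O_p(G) B(S)` lie in `M`. -/
theorem overgroup (h : Crit p G S M) {L : Subgroup G} (hL : L ≠ ⊤)
    (hP : Cfsg.pCore p G ≤ L) (hB : Cfsg.baumannSubgroupOf p (S : Subgroup G) ≤ L) : L ≤ M :=
  h.overgroup_aux (Nat.card L + 1) L (Nat.lt_succ_self _) hL hP hB

/-- The conjugates of `B(S)` generate `G`. -/
theorem normalClosure_B (h : Crit p G S M) :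
    Subgroup.normalClosure (Cfsg.baumannSubgroupOf p (S : Subgroup G) : Set G) = ⊤ := by
  set G₀ := Subgroup.normalClosure (Cfsg.baumannSubgroupOf p (S : Subgroup G) : Set G) with hG₀
  haveI hG₀n : G₀.Normal := Subgroup.normalClosure_normal
  haveI hPn := CfsgLib.Solvable.pCore_normal p G
  set P := Cfsg.pCore p G
  set B := Cfsg.baumannSubgroupOf p (S : Subgroup G) with hB
  have hBG₀ : B ≤ G₀ := Subgroup.le_normalClosure
  have hGP : G₀ ⊔ P = ⊤ := by
    by_contra hne
    refine h.Mne (top_le_iff.1 fun g _ => ?_)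
    obtain ⟨c, hc, hcg⟩ := frattini_argument S (G₀ ⊔ P) g
    have h2 := CfsgLib.PLocal.normalizer_le_normalizer_thompsonSubgroupOf (p := p) _ hcg
    rw [CfsgLib.PLocal.thompsonSubgroupOf_eq_of_le inf_le_left
      (le_inf (CfsgLib.PLocal.thompsonSubgroupOf_le p _) ((J_le_B S).trans (hBG₀.trans le_sup_left)))]
      at h2
    have h3 := mul_mem (inv_mem (h.overgroup hne le_sup_right (hBG₀.trans le_sup_left) hc))
      (h.normalizer_J_le h2)
    simpa using h3
  by_contra hne
  set S₀ := (S : Subgroup G) ⊓ G₀ with hS₀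
  set T := tgt (fam.{u} p) (S : Subgroup G) with hT
  have hsyl : IsSyl p S₀ G₀ := isSyl_inf_normal S G₀
  have hz : (S : Subgroup G) ⊓ ⁅G₀ ⊓ Subgroup.normalizer
      ((Cfsg.omegaOneCenter p S₀ : Subgroup G) : Set G),
      G₀ ⊓ Subgroup.normalizer ((Cfsg.omegaOneCenter p S₀ : Subgroup G) : Set G)⁆ ≤ T := by
    refine h.T_comm_le (inf_le_right.trans (h.Muniq _ ?_ fun htop => ?_))
    · intro s hs
      refine CfsgLib.PLocal.mem_normalizer_of_map_conj_eq ?_
      rw [omegaOneCenter_map (MulAut.conj s).injective, hS₀,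
        Subgroup.map_inf _ _ _ (MulAut.conj s).injective,
        CfsgLib.PLocal.map_conj_eq_of_mem_normalizer (Subgroup.le_normalizer hs),
        CfsgLib.PLocal.map_conj_eq_of_mem_normalizer (by rw [Subgroup.normalizer_eq_top]; trivial)]
    · haveI : (Cfsg.omegaOneCenter p S₀).Normal := Subgroup.normalizer_eq_top_iff.1 htop
      refine h.Mne (top_le_iff.1 (hGP.ge.trans ((sup_le ?_ ?_).trans h.cent_z0_le)))
      · refine Subgroup.normalClosure_le_normal (N := Subgroup.centralizer
          (Cfsg.omegaOneCenter p S₀ : Set G)) (fun b hb => ?_) |>.trans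
          (Subgroup.centralizer_le fun z hz => ?_)
        · exact Subgroup.mem_centralizer_iff.2 fun z hz =>
            ((omegaOneCenter_spec hz).2.1 b ⟨hb.1, hBG₀ hb⟩).symm
        · obtain ⟨hzS, hc, ho⟩ := omegaOneCenter_spec hz
          refine mem_omegaOneCenter_of ⟨hzS, hBG₀ ⟨hzS, ?_⟩⟩ (fun y hy => hc y hy.1) ho
          exact Subgroup.mem_centralizer_iff.2 fun y hy => hc y
            (CfsgLib.PLocal.thompsonSubgroupOf_le p _ (CfsgLib.PLocal.omegaOne_le p _ hy).1)
      · exact fun x hx => Subgroup.mem_centralizer_iff.2 fun z hz =>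
          ((omegaOneCenter_spec hz).2.1 x (P_le S hx)).symm
  have hG₀T : (S : Subgroup G) ⊓ G₀ ⊓ ⁅G₀, G₀⁆ ≤ T := h.inf_comm_le hne hBG₀ hsyl hz
  set D₀ := P ⊓ ⁅G₀, G₀⁆ with hD₀
  haveI hD₀n : D₀.Normal := by rw [hD₀]; infer_instance
  have hD₀T : D₀ ≤ T := fun x hx =>
    hG₀T ⟨⟨P_le S hx.1, Subgroup.commutator_le_self G₀ hx.2⟩, hx.2⟩
  have hS'T : ⁅(S : Subgroup G), (S : Subgroup G)⁆ ≤ T :=
    (le_inf (Subgroup.commutator_le_self _) le_rfl).trans (h.T_comm_le h.S_le)
  -- `[G₀, P] ≤ T`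
  have hGPT : ⁅G₀, P⁆ ≤ T := by
    refine Subgroup.commutator_le.2 fun g hg x hx => ?_
    set π := QuotientGroup.mk' D₀
    have hK : ∀ a ∈ G₀, ⁅a, x⁆ ∈ G₀ ⊓ P := fun a ha => by
      refine ⟨?_, ?_⟩
      · exact Subgroup.commutator_le_left G₀ P (Subgroup.commutator_mem_commutator ha hx)
      · exact Subgroup.commutator_le_right G₀ P (Subgroup.commutator_mem_commutator ha hx)
    let f : G₀ →* G ⧸ D₀ := MonoidHom.mk' (fun a => π ⁅(a : G), x⁆) fun a b => by
      show π ⁅(a : G) * b, x⁆ = π ⁅(a : G), x⁆ * π ⁅(b : G), x⁆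
      have e1 : ⁅(a : G) * b, x⁆ = ⁅(a : G), ⁅(b : G), x⁆⁆ * ⁅(b : G), x⁆ * ⁅(a : G), x⁆ := by
        simp only [commutatorElement_def]; group
      have h0 : π ⁅(a : G), ⁅(b : G), x⁆⁆ = 1 := (QuotientGroup.eq_one_iff _).2
        ⟨Subgroup.commutator_le_right ⊤ P (Subgroup.commutator_mem_commutator (Subgroup.mem_top _)
          (hK b b.2).2), Subgroup.commutator_mem_commutator a.2 (hK b b.2).1⟩
      have hcomm : π ⁅(b : G), x⁆ * π ⁅(a : G), x⁆ = π ⁅(a : G), x⁆ * π ⁅(b : G), x⁆ := by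
        refine commutatorElement_eq_one_iff_mul_comm.1 ?_
        rw [← map_commutatorElement]
        exact (QuotientGroup.eq_one_iff _).2
          ⟨Subgroup.commutator_le_right ⊤ P (Subgroup.commutator_mem_commutator (Subgroup.mem_top _)
            (hK a a.2).2), Subgroup.commutator_mem_commutator (hK b b.2).1 (hK a a.2).1⟩
      rw [e1, map_mul, map_mul, h0, one_mul, hcomm]
    have hrp : IsPGroup p f.range := by
      refine ((CfsgLib.Solvable.pCore_isPGroup p G).map π).to_le ?_
      rintro _ ⟨a, rfl⟩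
      exact ⟨_, (hK a a.2).2, rfl⟩
    obtain ⟨S₀', hS₀'T, hS₀'⟩ := exists_sylow_map hsyl
    set S₁ := S₀'.mapSurjective f.rangeRestrict_surjective
    have htop : (S₁ : Subgroup f.range) = ⊤ :=
      (S₁.is_maximal' (hrp.to_subgroup ⊤) le_top).symm
    obtain ⟨s, hs, hse⟩ : f.rangeRestrict ⟨g, hg⟩ ∈ (S₀' : Subgroup G₀).map f.rangeRestrict :=
      htop.ge (Subgroup.mem_top _)
    have e : π ⁅(s : G), x⁆ = π ⁅g, x⁆ := congrArg Subtype.val hse
    have h1 : ⁅g, x⁆⁻¹ * ⁅(s : G), x⁆ ∈ D₀ := QuotientGroup.eq.1 e.symm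
    have hsS : (s : G) ∈ (S : Subgroup G) := (hS₀'T.le ⟨s, hs, rfl⟩).1
    have h2 := mul_mem (hS'T (Subgroup.commutator_mem_commutator hsS (P_le S hx))) (inv_mem (hD₀T h1))
    convert h2 using 1
    group
  -- the derived group
  set X := ⁅G₀, P⁆ ⊔ ⁅P, P⁆ with hX
  haveI : X.Normal := by rw [hX]; infer_instance
  have hXP : X ≤ P := sup_le (Subgroup.commutator_le_right G₀ P) (Subgroup.commutator_le_self P)
  set N := ⁅G₀, G₀⁆ ⊔ X with hN
  haveI : N.Normal := by rw [hN]; infer_instance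
  have hG' : commutator G ≤ N := by
    have key : ∀ A C : Subgroup G, ⁅A, C⁆ ≤ N → A.map (QuotientGroup.mk' N) ≤
        Subgroup.centralizer (C.map (QuotientGroup.mk' N) : Set (G ⧸ N)) := by
      intro A C hAC
      rw [← Subgroup.commutator_eq_bot_iff_le_centralizer, ← Subgroup.map_commutator,
        Subgroup.map_eq_bot_iff, QuotientGroup.ker_mk']
      exact hAC
    have hN1 : ⁅G₀, P⁆ ≤ N := le_sup_left.trans (le_sup_right : X ≤ N)
    have hc : (⊤ : Subgroup (G ⧸ N)) ≤ Subgroup.centralizer ((⊤ : Subgroup (G ⧸ N)) : Set (G ⧸ N)) := by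
      rw [← Subgroup.map_top_of_surjective _ (QuotientGroup.mk'_surjective N), ← hGP, Subgroup.map_sup]
      have a1 := key G₀ G₀ le_sup_left
      have a2 := key G₀ P hN1
      have a3 := key P P ((le_sup_right : ⁅P, P⁆ ≤ X).trans le_sup_right)
      exact sup_le (Subgroup.le_centralizer_iff.1 (sup_le a1 (Subgroup.le_centralizer_iff.1 a2)))
        (Subgroup.le_centralizer_iff.1 (sup_le a2 a3))
    rw [commutator_def]
    refine Subgroup.commutator_le.2 fun a _ b _ => (QuotientGroup.eq_one_iff _).1 ?_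
    rw [← QuotientGroup.mk'_apply, map_commutatorElement, commutatorElement_eq_one_iff_mul_comm]
    exact Subgroup.mem_centralizer_iff.1 (hc (Subgroup.mem_top (QuotientGroup.mk' N b))) _
      (Subgroup.mem_top _)
  refine h.bad fun x hx => ?_
  have hxN : x ∈ ⁅G₀, G₀⁆ ⊔ X := hG' hx.2
  obtain ⟨a, ha, b, hb, rfl⟩ := Subgroup.mem_sup_of_normal_right.1 hxN
  have haP : a ∈ P := by
    have h1 : a * b ∈ P := hx.1
    simpa using mul_mem h1 (inv_mem (hXP hb))
  refine mul_mem (hD₀T ⟨haP, ha⟩) (sup_le hGPT ?_ hb)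
  exact (Subgroup.commutator_mono (P_le S) (P_le S)).trans hS'T

end Crit

end CfsgLib.FocalOdd
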