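import Cfsg.Agent.Lib.FocalOdd.Baumann
import Cfsg.Agent.S2764

/-!
# The odd focal subgroup theorem
-/

set_option autoImplicit false
set_option linter.unusedSectionVars false
set_option linter.style.haveILetI false

open scoped commutatorElement MatrixGroups IsMulCommutative

namespace CfsgLib.FocalOdd

open CfsgLib.ConjFunctor

universe u

/-- A nilpotent two by two matrix squares to zero. -/
theorem sq_eq_zero_of_isNilpotent {F : Type*} [Field F] {N : Matrix (Fin 2) (Fin 2) F}
    (h : IsNilpotent N) : N ^ 2 = 0 := by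
  have ht : N 0 0 + N 1 1 = 0 := by
    have e := Matrix.isNilpotent_trace_of_isNilpotent h
    rw [Matrix.trace_fin_two, isNilpotent_iff_eq_zero] at e
    exact e
  have hd : N 0 0 * N 1 1 - N 0 1 * N 1 0 = 0 := by
    obtain ⟨k, hk⟩ := h
    have e : IsNilpotent N.det := ⟨k, by rw [← Matrix.det_pow, hk, Matrix.det_zero]⟩
    rw [Matrix.det_fin_two, isNilpotent_iff_eq_zero] at e
    exact e
  rw [sq]
  ext i j
  fin_cases i <;> fin_cases j <;> simp [Matrix.mul_apply, Fin.sum_univ_two]
  · linear_combination N 0 0 * ht - hd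
  · linear_combination N 0 1 * ht
  · linear_combination N 1 0 * ht
  · linear_combination N 1 1 * ht - hd

variable {p : ℕ} [Fact p.Prime] {G : Type u} [Group G] [Finite G] {S : Sylow p G} {M : Subgroup G}

namespace Crit

set_option maxHeartbeats 1000000 in
/-- There is no minimal failure. -/
theorem absurd (h : Crit p G S M) : False := by
  classical
  obtain ⟨F, _, _, n, hn, hcard, f, hfs, -, -, -⟩ := h.exists_sl2
  have hE₂ : ∃! M' : Subgroup G, IsCoatom M' ∧ (S : Subgroup G) ≤ M' := by
    refine ⟨M, ⟨⟨h.Mne, fun R hR => by_contra fun hne => hR.not_ge (h.Muniq R (h.S_le.trans hR.le) hne)⟩,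
      h.S_le⟩, fun M' hM' => ?_⟩
    by_contra hne
    exact h.Mne (hM'.1.2 M (lt_of_le_of_ne (h.Muniq M' hM'.2 hM'.1.1) hne))
  set π := (QuotientGroup.mk' (Subgroup.center (Matrix.SpecialLinearGroup (Fin 2) F))).comp f
  have hπ : Function.Surjective π := (QuotientGroup.mk'_surjective _).comp hfs
  haveI : π.ker.Normal := MonoidHom.normal_ker π
  have e : G ⧸ π.ker ≃* Matrix.ProjectiveSpecialLinearGroup (Fin 2) F :=
    QuotientGroup.quotientKerEquivOfSurjective π hπ
  have hd : ∀ T : Subgroup ↥(S : Subgroup G), T ≠ ⊥ → T.Characteristic →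
      ¬ (T.map (S : Subgroup G).subtype).Normal := by
    have h1 := fun V : Subgroup ↥(Cfsg.baumannSubgroupOf p (S : Subgroup G)) =>
      h.not_normal_baumann (V := V)
    rw [h.baumann_eq] at h1
    exact fun T hT1 hTc => h1 T hTc hT1
  have hnat := (Cfsg.Agent.S2764.result S h.con hE₂ π.ker F n hn hcard ⟨e⟩ hd).2
  obtain ⟨u, hu, huP⟩ : ∃ u ∈ (S : Subgroup G), u ∉ Cfsg.pCore p G := by
    by_contra hall
    push Not at hall
    exact h.not_J_le_P ((CfsgLib.PLocal.thompsonSubgroupOf_le p _).trans hall)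
  obtain ⟨U, W, hc, hU, hnot⟩ := h.engel u hu huP
  haveI := hc.2.1
  haveI := hc.2.2.1
  have hp3 : 2 ≤ p - 1 := by
    have h2 := (Fact.out : p.Prime).two_le
    have h3 := h.odd
    omega
  refine hnot (iterCommutator_le_of_le (m := 2) ?_ hp3)
  by_cases hcen : ⁅U, (⊤ : Subgroup G)⁆ ≤ W
  · refine le_trans ?_ hcen
    show ⁅⁅U, Subgroup.zpowers u⁆, Subgroup.zpowers u⁆ ≤ _
    exact Subgroup.commutator_mono (Subgroup.commutator_le_left U _) le_top
  haveI : IsMulCommutative ↥(secImage U W) := secImage_comm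
    (le_trans (Subgroup.commutator_mono le_rfl hU) (commutator_chief_le le_rfl hc hU))
  obtain ⟨-, r, ψ, -, -, hact⟩ := hnat U W hU hc hcen
  rw [iterCommutator_zpowers_le_iff]
  set x : (⊤ : Subgroup (G ⧸ W)) := ⟨QuotientGroup.mk' W u, Subgroup.mem_top _⟩ with hx
  set a : Matrix (Fin 2) (Fin 2) F := (r x : Matrix.SpecialLinearGroup (Fin 2) F).1 with ha
  have hstep : ∀ v : Additive ↥(secImage U W),
      ψ ((secRep U W u - 1 : AddMonoid.End _) v) = (a - 1).mulVec (ψ v) := by
    intro v
    obtain ⟨w, hw, hψ⟩ := hact x v.toMul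
    have hwv : Additive.ofMul w = secRep U W u v :=
      congrArg Additive.ofMul (Subtype.ext (hw.trans (MulAut.conjNormal_apply _ _).symm))
    show ψ (secRep U W u v - v) = _
    rw [map_sub, ← hwv, hψ, Matrix.sub_mulVec, Matrix.one_mulVec]
    rfl
  have hnil : IsNilpotent (a - 1) := by
    obtain ⟨k, hk⟩ := S.isPGroup' ⟨u, hu⟩
    have hk' : u ^ p ^ k = 1 := congrArg Subtype.val hk
    have h1 : x ^ p ^ k = 1 := Subtype.ext (by
      show QuotientGroup.mk' W u ^ p ^ k = 1
      rw [← map_pow, hk', map_one])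
    have h2 : a ^ p ^ k = 1 := by
      rw [ha, ← Matrix.SpecialLinearGroup.coe_pow, ← map_pow, h1, map_one,
        Matrix.SpecialLinearGroup.coe_one]
    haveI : CharP F p := by
      refine charP_of_card_eq_prime_pow (f := n) ?_
      exact hcard
    exact ⟨p ^ k, by rw [sub_pow_char_pow_of_commute _ _ (Commute.one_right a), h2, one_pow, sub_self]⟩
  refine AddMonoidHom.ext fun v => ψ.injective ?_
  show ψ (((secRep U W u - 1) ^ 2 : AddMonoid.End _) v) = ψ 0
  rw [sq]
  show ψ ((secRep U W u - 1 : AddMonoid.End _) ((secRep U W u - 1 : AddMonoid.End _) v)) = ψ 0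
  rw [hstep, hstep, Matrix.mulVec_mulVec, ← sq, sq_eq_zero_of_isNilpotent hnil, Matrix.zero_mulVec,
    map_zero]

end Crit

theorem focal_le_aux (hp : p ≠ 2) : ∀ m : ℕ, ∀ (G : Type u) [Group G] [Finite G],
    Nat.card G < m → ∀ S : Sylow p G,
      (S : Subgroup G) ⊓ commutator G ≤ tgt (fam.{u} p) (S : Subgroup G) := by
  intro m
  induction m with
  | zero => intro G _ _ hc; omega
  | succ m ih =>
    intro G _ _ hc S
    by_contra hG
    have hprop : ProperControl p (fam.{u} p) G := fun H _ _ _ hlt T => ih H (by omega) T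
    obtain ⟨M, hMdef, hcon, ⟨hMne, hMuniq⟩, -, hengel⟩ :=
      transfer_critical fam_isCharP (fam_nonempty p) hprop S hG
    exact Crit.absurd (S := S) (M := M)
      { odd := hp
        proper := hprop
        bad := (exists_critical fam_isCharP hprop S hG).2
        con := hcon
        Mne := hMne
        Muniq := hMuniq
        Mdef := hMdef
        engel := hengel }

/-- For odd `p` the family controls transfer. -/
theorem focal_le (hp : p ≠ 2) (S : Sylow p G) :
    (S : Subgroup G) ⊓ commutator G ≤ tgt (fam.{u} p) (S : Subgroup G) :=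
  focal_le_aux hp (Nat.card G + 1) G (Nat.lt_succ_self _) S

end CfsgLib.FocalOdd
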