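import Cfsg.Agent.Lib.FocalOdd.Coord
import Mathlib.FieldTheory.Fixed

/-!
# Commuting frames are orthogonal, and exact offenders centralize frames in normal abelian groups
-/

set_option autoImplicit false
set_option linter.unusedSectionVars false
set_option linter.style.haveILetI false

namespace CfsgLib.FocalOdd

open Matrix CfsgLib.LocalEven.Pair CfsgLib.OffenderPair
open scoped MatrixGroups

variable {P : Type*} [Group P] {V : Type*} [AddCommGroup V] {ρ : P →* AddMonoid.End V}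
  {p : ℕ} {C : Subgroup P}

theorem uni_mul {F : Type*} [Field F] (s t : F) : uni s * uni t = uni (s + t) := by
  refine Subtype.ext ?_
  show (!![1, s; 0, 1] * !![1, t; 0, 1] : Matrix (Fin 2) (Fin 2) F) = !![1, s + t; 0, 1]
  ext i j
  fin_cases i <;> fin_cases j <;> simp [Matrix.mul_apply, Fin.sum_univ_two, add_comm]

theorem eq_one_of_pow_p_pow {F : Type*} [Field F] {p : ℕ} [Fact p.Prime] (hp0 : (p : F) = 0)
    {κ : F} {n : ℕ} (h : κ ^ p ^ n = 1) : κ = 1 := by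
  haveI : CharP F p := (CharP.charP_iff_prime_eq_zero Fact.out).2 hp0
  have h1 : (κ - 1) ^ p ^ n = 0 := by rw [sub_pow_char_pow, h, one_pow, sub_self]
  exact sub_eq_zero.1 (eq_zero_of_pow_eq_zero h1)

theorem pow_le_succ_iff {p k : ℕ} (hp : 3 ≤ p) (h : p ^ k ≤ k + 1) : k = 0 := by
  by_contra hk
  have key : ∀ j : ℕ, j + 2 < 3 ^ (j + 1) := by
    intro j
    induction j with
    | zero => norm_num
    | succ j ih => rw [pow_succ]; omega
  obtain ⟨j, rfl⟩ := Nat.exists_eq_succ_of_ne_zero hk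
  have h1 := (Nat.pow_le_pow_left hp (j + 1)).trans h
  have h2 := key j
  omega

/-- A `p`-group fixes a nonzero vector of an invariant nonzero subgroup. -/
theorem exists_fix_ne [Finite P] [Finite V] [Fact p.Prime] (hV : ∀ v : V, p • v = 0) {X : Subgroup P}
    (hX : IsPGroup p X) {W : AddSubgroup V} (hW : ∀ x ∈ X, ∀ w ∈ W, ρ x w ∈ W) {w0 : V}
    (hw0 : w0 ∈ W) (hne : w0 ≠ 0) : ∃ w ∈ W, w ≠ 0 ∧ ∀ x ∈ X, ρ x w = w := by
  letI act : MulAction X W :=
    { smul := fun x w => ⟨ρ (x : P) w, hW x x.2 w w.2⟩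
      one_smul := fun w => Subtype.ext (act_one ρ _)
      mul_smul := fun x y w => Subtype.ext (act_mul ρ _ _ _) }
  have hd : p ∣ Nat.card W := by
    have h1 : addOrderOf (⟨w0, hw0⟩ : W) = p :=
      addOrderOf_eq_prime (Subtype.ext (hV w0)) fun h => hne (congrArg Subtype.val h)
    rw [← h1]
    exact addOrderOf_dvd_natCard _
  obtain ⟨w, hw, hne'⟩ := hX.exists_fixed_point_of_prime_dvd_card_of_fixed_point W hd
    (a := 0) (fun x => Subtype.ext (map_zero (ρ (x : P))))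
  exact ⟨w, w.2, fun h => hne' (Subtype.ext h.symm), fun x hx => congrArg Subtype.val (hw ⟨x, hx⟩)⟩

namespace Frame

variable (fr : Frame ρ p C)

theorem cEl_mul (s t : fr.F) : fr.cEl s * fr.cEl t = fr.cEl (s + t) := by
  rw [cEl, cEl, cEl, ← Subgroup.coe_mul, ← map_mul, uni_mul]

theorem cEl_zero : fr.cEl 0 = 1 := by rw [cEl, uni_zero, map_one, Subgroup.coe_one]

include fr in
theorem elem : Elem p C := by
  refine ⟨fun a ha => ?_, fun a ha b hb => ?_⟩
  · obtain ⟨s, rfl⟩ := fr.exists_cEl ha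
    have hn : ∀ n : ℕ, fr.cEl s ^ n = fr.cEl ((n : fr.F) * s) := by
      intro n
      induction n with
      | zero => simp [cEl_zero]
      | succ n ih => rw [pow_succ, ih, cEl_mul, Nat.cast_succ, add_mul, one_mul]
    rw [hn, fr.natCast_p, zero_mul, cEl_zero]
  · obtain ⟨s, rfl⟩ := fr.exists_cEl ha
    obtain ⟨t, rfl⟩ := fr.exists_cEl hb
    rw [cEl_mul, cEl_mul, add_comm]

/-- The action of an element on `W₀`. -/
noncomputable def phi0 (d : P) : fr.F →+ fr.F := fr.pr0.comp ((show V →+ V from ρ d).comp fr.ι0)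

/-- The action of an element on the quotient by `fix C`. -/
noncomputable def phi1 (d : P) : fr.F →+ fr.F := fr.pr1.comp ((show V →+ V from ρ d).comp fr.ι2)

theorem phi0_apply (d : P) (a : fr.F) : fr.phi0 d a = fr.pr0 (ρ d (fr.ι0 a)) := rfl

theorem phi1_apply (d : P) (b : fr.F) : fr.phi1 d b = fr.pr1 (ρ d (fr.ι2 b)) := rfl

variable [Finite P] [Finite V] [Fact p.Prime] {T : Sylow p P} {M : Subgroup P}

theorem act_ι0 {d : P} (hd : d ∈ Subgroup.normalizer (C : Set P)) (a : fr.F) :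
    ρ d (fr.ι0 a) = fr.ι0 (fr.phi0 d a) := by
  obtain ⟨a', ha'⟩ := fr.norm_W0 hd a
  rw [phi0_apply, ha', pr0_ι0]

theorem phi0_mul {d e : P} (he : e ∈ Subgroup.normalizer (C : Set P)) (a : fr.F) :
    fr.phi0 (d * e) a = fr.phi0 d (fr.phi0 e a) := by
  rw [phi0_apply, act_mul, fr.act_ι0 he, ← phi0_apply]

theorem phi0_one (a : fr.F) : fr.phi0 1 a = a := by rw [phi0_apply, act_one, pr0_ι0]

theorem phi1_one (a : fr.F) : fr.phi1 1 a = a := by rw [phi1_apply, act_one, pr1_ι2]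

theorem phi1_mul {d e : P} (hd : d ∈ Subgroup.normalizer (C : Set P)) (b : fr.F) :
    fr.phi1 (d * e) b = fr.phi1 d (fr.phi1 e b) := by
  rw [phi1_apply, phi1_apply, phi1_apply, act_mul]
  set v := ρ e (fr.ι2 b)
  have h0 : fr.pr1 (ρ d (v - fr.ι2 (fr.pr1 v))) = 0 :=
    fr.norm_W hd (by rw [map_sub, pr1_ι2, sub_self])
  rw [map_sub, map_sub, sub_eq_zero] at h0
  exact h0

theorem phi0_ne {d : P} (hd : d ∈ Subgroup.normalizer (C : Set P)) {a : fr.F} (ha : a ≠ 0) :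
    fr.phi0 d a ≠ 0 := by
  intro h
  have h1 := fr.act_ι0 hd a
  rw [h, map_zero, ← map_zero (ρ d)] at h1
  have h2 := congrArg fr.pr0 (act_injective ρ d h1)
  rw [pr0_ι0, map_zero] at h2
  exact ha h2

theorem exists_sigma {d : P} (hd : d ∈ Subgroup.normalizer (C : Set P)) (s : fr.F) :
    ∃ s', d * fr.cEl s * d⁻¹ = fr.cEl s' ∧ ∀ b, fr.phi0 d (s * b) = s' * fr.phi1 d b := by
  obtain ⟨s', hs'⟩ := fr.exists_cEl ((Subgroup.mem_normalizer_iff.1 hd _).1 (fr.cEl_mem s))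
  refine ⟨s', hs', fun b => ?_⟩
  have e := congrArg (fun x => ρ x (ρ d (fr.ι2 b))) hs'
  simp only [act_mul, act_inv_act, cEl_act, map_add, pr1_ι2, fr.act_ι0 hd, ← phi1_apply] at e
  simpa using congrArg fr.pr0 (add_left_cancel e)

theorem phi0_key {d : P} (hd : d ∈ Subgroup.normalizer (C : Set P)) (s b : fr.F) :
    fr.phi0 d (s * b) * fr.phi0 d 1 = fr.phi0 d s * fr.phi0 d b := by
  obtain ⟨σ, -, hσ⟩ := fr.exists_sigma hd s
  obtain ⟨σ1, -, hσ1⟩ := fr.exists_sigma hd 1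
  have e1 := hσ 1
  have e2 := hσ1 b
  have e3 := hσ1 1
  rw [mul_one] at e1 e3
  rw [one_mul] at e2
  rw [hσ b, e3, e1, e2]
  ring

/-- Elements trivial on `W₀` act on `V / fix C` as a scalar, and `p`-elements trivially. -/
theorem phi1_eq_of_phi0 {d : P} (hd : d ∈ Subgroup.normalizer (C : Set P))
    (h0 : ∀ a, fr.phi0 d a = a) {n : ℕ} (hn : d ^ p ^ n = 1) :
    (∀ b, fr.phi1 d b = b) ∧ ∀ c ∈ C, d * c = c * d := by
  obtain ⟨σ1, -, hσ1⟩ := fr.exists_sigma hd 1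
  have hb : ∀ b, σ1 * fr.phi1 d b = b := fun b => by rw [← hσ1, one_mul, h0]
  have hσ0 : σ1 ≠ 0 := fun h => by simpa [h] using hb 1
  have hlin : ∀ b, fr.phi1 d b = b * fr.phi1 d 1 := fun b => by
    apply mul_left_cancel₀ hσ0
    rw [hb, mul_left_comm, hb, mul_one]
  have hpow : ∀ k : ℕ, fr.phi1 (d ^ k) 1 = fr.phi1 d 1 ^ k := by
    intro k
    induction k with
    | zero => rw [pow_zero, pow_zero, phi1_one]
    | succ k ih => rw [pow_succ', fr.phi1_mul hd, hlin, ih, ← pow_succ]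
  have hone : fr.phi1 d 1 = 1 := by
    refine eq_one_of_pow_p_pow fr.natCast_p (n := n) ?_
    rw [← hpow, hn, phi1_one]
  have h1 : ∀ b, fr.phi1 d b = b := fun b => by rw [hlin, hone, mul_one]
  refine ⟨h1, fun c hc => ?_⟩
  obtain ⟨s, rfl⟩ := fr.exists_cEl hc
  obtain ⟨σ, hσ', hσ⟩ := fr.exists_sigma hd s
  have e := hσ 1
  rw [h0, h1, mul_one, mul_one] at e
  exact mul_inv_eq_iff_eq_mul.1 (hσ'.trans (by rw [← e]))

theorem exists_phi0_fixed {X : Subgroup P} (hX : IsPGroup p X)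
    (hXN : X ≤ Subgroup.normalizer (C : Set P)) :
    ∃ a ≠ 0, ∀ x ∈ X, fr.phi0 x a = a := by
  have hne : fr.ι0 1 ≠ 0 := fun h => by simpa using congrArg fr.pr0 h
  obtain ⟨w, ⟨a, rfl⟩, hw0, hw⟩ := exists_fix_ne (ρ := ρ) fr.ppos hX (W := fr.ι0.range)
    (fun x hx w ⟨a, ha⟩ => ⟨fr.phi0 x a, by rw [← ha, fr.act_ι0 (hXN hx)]⟩) ⟨1, rfl⟩ hne
  exact ⟨a, fun h => hw0 (by rw [h, map_zero]), fun x hx => by rw [phi0_apply, hw x hx, pr0_ι0]⟩

theorem π_comm (h : Hyp ρ p T M) {d : P} (hd : d ∈ Subgroup.normalizer (C : Set P)) (v : V) :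
    fr.π (ρ d v) = ρ d (fr.π v) := by
  rw [π_apply, π_apply, map_nsmul, map_sub, ← act_mul, fr.normalizer_comm_τ h hd, act_mul]

/-- A commuting frame is trivial on the `-1`-space and moves `V` inside the fixed space. -/
theorem orth (h : Hyp ρ p T M) {D : Subgroup P} (fr' : Frame ρ p D)
    (hc : ∀ a ∈ C, ∀ b ∈ D, a * b = b * a) (hne : D ≠ C) {d : P} (hd : d ∈ D) :
    (∀ x, ρ d (fr.ι x) = fr.ι x) ∧ ∀ v, fr.χ (ρ d v - v) = 0 := by
  have hinf : ∀ a ∈ C, a ∈ D → a = 1 := by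
    intro a haC haD
    by_contra ha1
    obtain ⟨s, hs⟩ := fr.exists_cEl haC
    obtain ⟨s', hs'⟩ := fr'.exists_cEl haD
    have hs0 : s ≠ 0 := fun e => ha1 (by rw [hs, e, cEl_zero])
    have hs0' : s' ≠ 0 := fun e => ha1 (by rw [hs', e, cEl_zero])
    have hW : ∀ v, fr.pr1 v = 0 ↔ fr'.pr1 v = 0 := fun v => by
      rw [← fr.fix_cEl_iff hs0, ← fr'.fix_cEl_iff hs0', ← hs, ← hs']
    refine hne (le_antisymm (fun y hy => fr.mem_of_kW h ⟨fun v hv => ?_, fun v => ?_⟩)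
      (fun y hy => fr'.mem_of_kW h ⟨fun v hv => ?_, fun v => ?_⟩))
    · exact fr'.mem_fix_iff.2 ((hW v).1 hv) y hy
    · obtain ⟨t, rfl⟩ := fr'.exists_cEl hy
      rw [cEl_act, map_add, add_eq_left, hW, pr1_ι0]
    · exact fr.mem_fix_iff.2 ((hW v).2 hv) y hy
    · obtain ⟨t, rfl⟩ := fr.exists_cEl hy
      rw [cEl_act, map_add, add_eq_left, ← hW, pr1_ι0]
  have hsup : fix ρ C ⊔ fix ρ D = ⊤ := by
    have hb := h.bound (fr.elem.sup fr'.elem hc)
    have hcard : Nat.card C * Nat.card D ≤ Nat.card ↥(C ⊔ D) := by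
      rw [← Nat.card_prod]
      refine Nat.card_le_card_of_injective
        (fun z : C × D => (⟨(z.1 : P) * z.2, Subgroup.mul_mem_sup z.1.2 z.2.2⟩ : ↥(C ⊔ D))) ?_
      rintro ⟨a, b⟩ ⟨a', b'⟩ he
      have he' : (a : P) * b = (a' : P) * b' := congrArg Subtype.val he
      have h1 : (a' : P)⁻¹ * a = (b' : P) * (b : P)⁻¹ := by
        rw [eq_mul_inv_iff_mul_eq, mul_assoc, he', inv_mul_cancel_left]
      have h2 := hinf _ (mul_mem (inv_mem a'.2) a.2) (h1 ▸ mul_mem b'.2 (inv_mem b.2))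
      refine Prod.ext (Subtype.ext (inv_mul_eq_one.1 h2).symm) (Subtype.ext ?_)
      rw [h2, eq_comm, mul_inv_eq_one] at h1
      exact h1.symm
    have hfix : fix ρ C ⊓ fix ρ D ≤ fix ρ (C ⊔ D) := fun v hv x hx =>
      (show C ⊔ D ≤ stab ρ v from sup_le (fun a ha => hv.1 a ha) fun a ha => hv.2 a ha) hx
    have hfix' : Nat.card ↥(fix ρ C ⊓ fix ρ D) ≤ Nat.card (fix ρ (C ⊔ D)) :=
      Nat.card_le_card_of_injective (fun u : ↥(fix ρ C ⊓ fix ρ D) => (⟨u, hfix u.2⟩ : fix ρ (C ⊔ D)))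
        fun a b e => Subtype.ext (congrArg (fun w : fix ρ (C ⊔ D) => (w : V)) e)
    have hm := card_mul_card_le (X := fix ρ C) (Y := fix ρ D) (W := fix ρ C ⊔ fix ρ D)
      (Z := fix ρ C ⊓ fix ρ D) le_sup_left le_sup_right fun v h1 h2 => ⟨h1, h2⟩
    have e1 := fr.meas_eq
    have e2 := fr'.meas_eq
    rw [meas] at hb e1 e2
    refine AddSubgroup.eq_top_of_le_card _ (Nat.le_of_mul_le_mul_left ?_ (Nat.card_pos (α := V)))
    calc Nat.card V * Nat.card V
        = Nat.card C * Nat.card D * (Nat.card (fix ρ C) * Nat.card (fix ρ D)) := by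
          nth_rewrite 1 [← e1]
          rw [← e2]
          ring
      _ ≤ Nat.card ↥(C ⊔ D) *
          (Nat.card ↥(fix ρ C ⊔ fix ρ D) * Nat.card (fix ρ (C ⊔ D))) :=
          Nat.mul_le_mul hcard (hm.trans (Nat.mul_le_mul_left _ hfix'))
      _ ≤ Nat.card V * Nat.card ↥(fix ρ C ⊔ fix ρ D) := by
          rw [mul_left_comm, mul_comm]
          exact Nat.mul_le_mul_right _ hb
  have hdN : d ∈ Subgroup.normalizer (C : Set P) := by
    rw [Subgroup.mem_normalizer_iff]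
    intro c
    constructor
    · intro hc'
      rwa [← hc c hc' d hd, mul_inv_cancel_right]
    · intro hc'
      have e := hc _ hc' d hd
      rw [inv_mul_cancel_right] at e
      rw [mul_left_cancel e]
      exact hc'
  have hw : ∀ b, ∃ w ∈ fix ρ D, fr.pr1 w = b := fun b => by
    obtain ⟨u, hu, w, hw, e⟩ := AddSubgroup.mem_sup.1 (hsup.ge (AddSubgroup.mem_top (fr.ι2 b)))
    refine ⟨w, hw, ?_⟩
    have e1 := congrArg fr.pr1 e
    rwa [map_add, fr.mem_fix_iff.1 hu, zero_add, pr1_ι2] at e1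
  have h0 : ∀ b, ρ d (fr.ι0 b) = fr.ι0 b := by
    intro b
    obtain ⟨w, hw, rfl⟩ := hw b
    have e : fr.ι0 (fr.pr1 w) = ρ (fr.cEl 1) w - w := by rw [cEl_act, one_mul, add_sub_cancel_left]
    rw [e, map_sub, hw d hd, ← act_mul, ← hc _ (fr.cEl_mem 1) d hd, act_mul, hw d hd]
  have h2 : ∀ b, ρ d (fr.ι2 b) = fr.ι2 b := by
    intro b
    obtain ⟨w, hw, rfl⟩ := hw b
    have e1 : ρ d (fr.π w) = fr.π w := by rw [← fr.π_comm h hdN, hw d hd]
    have e2 : fr.π w = fr.ι0 (fr.pr0 w) + fr.ι2 (fr.pr1 w) := by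
      rw [← fr.ι_χ, ι0_apply, ι2_apply, ← map_add]
      congr 1
      ext i
      fin_cases i <;> simp [pr0_apply, pr1_apply]
    rw [e2, map_add, h0] at e1
    exact add_left_cancel e1
  have hι : ∀ x, ρ d (fr.ι x) = fr.ι x := fun x => by
    have e : fr.ι x = fr.ι0 (x 0) + fr.ι2 (x 1) := by
      rw [ι0_apply, ι2_apply, ← map_add]
      congr 1
      ext i
      fin_cases i <;> simp
    rw [e, map_add, h0, h2]
  refine ⟨hι, fun v => ?_⟩
  rw [← fr.χ_π, map_sub fr.π, fr.π_comm h hdN, ← fr.ι_χ, hι, sub_self, map_zero]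

end Frame

namespace Hyp

variable [Finite P] [Finite V] [Fact p.Prime] {T : Sylow p P} {M : Subgroup P}

/-- Exact offenders centralize the frames in the abelian groups they normalize. -/
theorem centralizes_frame (h : Hyp ρ p T M) {X Z : Subgroup P} (hX : X ∈ Exact ρ p)
    (hZ : ∀ a ∈ Z, ∀ b ∈ Z, a * b = b * a) (hXZ : X ≤ Subgroup.normalizer (Z : Set P))
    (fr : Frame ρ p C) (hCZ : C ≤ Z) : ∀ x ∈ X, ∀ c ∈ C, x * c = c * x := by
  classical
  haveI hchar : CharP fr.F p := (CharP.charP_iff_prime_eq_zero Fact.out).2 fr.natCast_p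
  have hp3 : 3 ≤ p := by
    have h2 := (Fact.out : p.Prime).two_le
    have h3 := h.odd
    omega
  obtain ⟨hXe, hXm⟩ := hX
  -- `X` normalizes `C`
  set X0 := X ⊓ Subgroup.normalizer (C : Set P) with hX0
  set N0 := X0.subgroupOf X with hN0
  obtain ⟨a0, ha0, hfix0⟩ := fr.exists_phi0_fixed (hXe.to_le inf_le_left).isP
    (inf_le_right : X0 ≤ Subgroup.normalizer (C : Set P))
  set v0 := fr.ι0 a0 with hv0
  have hv0fix : ∀ x ∈ X0, ρ x v0 = v0 := fun x hx => by rw [hv0, fr.act_ι0 hx.2, hfix0 x hx]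
  have hχ0 : ∀ g ∈ X, g ∉ Subgroup.normalizer (C : Set P) → fr.χ (ρ g v0) = 0 := by
    intro g hg hgN
    set D := C.map (MulAut.conj g).toMonoidHom with hD
    have hDC : D ≠ C := fun e => hgN (CfsgLib.PLocal.mem_normalizer_of_map_conj_eq e)
    have hDZ : D ≤ Z := by
      rintro _ ⟨c, hc, rfl⟩
      exact (Subgroup.mem_normalizer_iff.1 (hXZ hg) c).1 (hCZ hc)
    have hcm : g * fr.cEl 1 * g⁻¹ ∈ D := ⟨_, fr.cEl_mem 1, rfl⟩
    have e := (fr.orth h (fr.conj g) (fun a ha b hb => hZ a (hCZ ha) b (hDZ hb)) hDC hcm).2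
      (ρ g (fr.ι2 a0))
    rw [act_mul, act_mul, act_inv_act, ← map_sub, fr.cEl_act, Frame.pr1_ι2, one_mul,
      add_sub_cancel_left] at e
    exact e
  haveI := Fintype.ofFinite (X ⧸ N0)
  have hout : ((Quotient.out (QuotientGroup.mk 1 : X ⧸ N0) : X) : P) ∈ X0 := by
    obtain ⟨n, hn⟩ := QuotientGroup.mk_out_eq_mul N0 (1 : X)
    rw [one_mul] at hn
    rw [hn]
    exact n.2
  set q0 : X ⧸ N0 := QuotientGroup.mk 1 with hq0
  set r : X ⧸ N0 → P := fun q => ((Quotient.out q : X) : P) with hr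
  have hrX : ∀ q, r q ∈ X := fun q => (Quotient.out q).2
  have hrN : ∀ q q', q ≠ q' → (r q)⁻¹ * r q' ∉ Subgroup.normalizer (C : Set P) := by
    intro q q' hne hmem
    apply hne
    rw [← Quotient.out_eq q, ← Quotient.out_eq q']
    exact QuotientGroup.eq.2 (show (Quotient.out q)⁻¹ * Quotient.out q' ∈ N0 from
      Subgroup.mem_subgroupOf.2 ⟨(((Quotient.out q)⁻¹ * Quotient.out q' : X)).2, hmem⟩)
  have hX0X : fix ρ X ≤ fix ρ X0 := fix_anti ρ inf_le_left
  have hrfix : ∀ q, ρ (r q) v0 ∈ fix ρ X0 := fun q x hx => by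
    rw [← act_mul, hXe.2 x hx.1 _ (hrX q), act_mul, hv0fix x hx]
  let ι' := {q : X ⧸ N0 // q ≠ q0}
  let Θ : (ι' → Fin p) × fix ρ X → fix ρ X0 := fun z =>
    ⟨(∑ q : ι', (z.1 q : ℕ) • ρ (r q) v0) + (z.2 : V),
      add_mem (sum_mem fun q _ => nsmul_mem (hrfix q) _) (hX0X z.2.2)⟩
  have hr0 : ∀ q : ι', fr.χ (ρ (r q) v0) = 0 := fun q => by
    refine hχ0 _ (hrX q) fun hN => q.2 ?_
    by_contra hne
    refine hrN q0 q (Ne.symm hne) (mul_mem (inv_mem hout.2) hN)
  have hrq : ∀ q q1 : ι', q ≠ q1 → fr.χ (ρ ((r q1)⁻¹ * r q) v0) = 0 := fun q q1 hne =>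
    hχ0 _ (mul_mem (inv_mem (hrX q1)) (hrX q)) (hrN q1 q fun e => hne (Subtype.ext e.symm))
  have hΘ : Function.Injective Θ := by
    rintro ⟨f, w⟩ ⟨f', w'⟩ he
    have he' : (∑ q : ι', (f q : ℕ) • ρ (r q) v0) + (w : V) =
        (∑ q : ι', (f' q : ℕ) • ρ (r q) v0) + (w' : V) := congrArg Subtype.val he
    have hw : fr.χ w = fr.χ w' := by
      have e := congrArg fr.χ he'
      simp only [map_add, map_sum, map_nsmul, hr0, smul_zero, Finset.sum_const_zero, zero_add] at e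
      exact e
    have hf : f = f' := by
      funext q1
      have e := congrArg (fun v => fr.χ (ρ (r q1)⁻¹ v)) he'
      simp only [map_add, map_sum, map_nsmul, ← act_mul, w.2 _ (inv_mem (hrX q1)),
        w'.2 _ (inv_mem (hrX q1))] at e
      rw [Finset.sum_eq_single q1 (fun q _ hne => by rw [hrq q q1 hne, smul_zero])
          (fun hc => absurd (Finset.mem_univ _) hc),
        Finset.sum_eq_single q1 (fun q _ hne => by rw [hrq q q1 hne, smul_zero])
          (fun hc => absurd (Finset.mem_univ _) hc), hw, add_left_inj, inv_mul_cancel, act_one] at e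
      have e0 := congrFun e 0
      simp only [Pi.smul_apply, hv0, ← Frame.pr0_apply, Frame.pr0_ι0, nsmul_eq_mul] at e0
      exact Fin.ext (CharP.natCast_injOn_Iio fr.F p (f q1).2 (f' q1).2 (mul_right_cancel₀ ha0 e0))
    subst hf
    exact Prod.ext rfl (Subtype.ext (add_left_cancel he'))
  have hcΘ := Nat.card_le_card_of_injective Θ hΘ
  rw [Nat.card_prod, Nat.card_fun, Nat.card_fin] at hcΘ
  have hb0 := h.bound (hXe.to_le (inf_le_left : X0 ≤ X))
  rw [meas, ← hXm, meas] at hb0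
  have hcX : Nat.card X = Nat.card (X ⧸ N0) * Nat.card X0 := by
    rw [Subgroup.card_eq_card_quotient_mul_card_subgroup N0,
      Nat.card_congr (Subgroup.subgroupOfEquivOfLe (inf_le_left : X0 ≤ X)).toEquiv]
  have hι' : Nat.card ι' + 1 = Nat.card (X ⧸ N0) := by
    have e : Nat.card ι' = Nat.card (X ⧸ N0) - 1 := by
      rw [Nat.card_eq_fintype_card, Nat.card_eq_fintype_card, Fintype.card_subtype_compl,
        Fintype.card_subtype_eq]
    have : 0 < Nat.card (X ⧸ N0) := Nat.card_pos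
    omega
  have hXN : X ≤ Subgroup.normalizer (C : Set P) := by
    have h1 : p ^ Nat.card ι' ≤ Nat.card ι' + 1 := by
      rw [hι']
      refine Nat.le_of_mul_le_mul_right ?_ (Nat.mul_pos (Nat.card_pos (α := X0))
        (Nat.card_pos (α := fix ρ X)))
      calc p ^ Nat.card ι' * (Nat.card X0 * Nat.card (fix ρ X))
          = Nat.card X0 * (p ^ Nat.card ι' * Nat.card (fix ρ X)) := by ring
        _ ≤ Nat.card X0 * Nat.card (fix ρ X0) := Nat.mul_le_mul_left _ hcΘ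
        _ ≤ _ := hb0
        _ = _ := by rw [hcX]; ring
    have h2 := pow_le_succ_iff hp3 h1
    have h3 : N0 = ⊤ := by
      rw [← Subgroup.index_eq_one, Subgroup.index_eq_card]
      omega
    exact (Subgroup.subgroupOf_eq_top.1 h3).trans inf_le_right
  -- field automorphisms
  obtain ⟨f0, hf0, hfX⟩ := fr.exists_phi0_fixed hXe.isP hXN
  have hk : ∀ x : X, fr.phi0 (x : P) 1 ≠ 0 := fun x => fr.phi0_ne (hXN x.2) one_ne_zero
  let θh : X → (fr.F →+* fr.F) := fun x =>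
    { toFun := fun a => fr.phi0 (x : P) a * (fr.phi0 (x : P) 1)⁻¹
      map_one' := mul_inv_cancel₀ (hk x)
      map_mul' := fun a b => by
        rw [← mul_left_inj' (hk x), inv_mul_cancel_right₀ (hk x), ← mul_left_inj' (hk x),
          fr.phi0_key (hXN x.2)]
        field_simp [hk x]
      map_zero' := by rw [map_zero, zero_mul]
      map_add' := fun a b => by rw [map_add, add_mul] }
  let θ : X → RingAut fr.F := fun x =>
    RingEquiv.ofBijective (θh x) (Finite.injective_iff_bijective.1 (θh x).injective)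
  have hθ : ∀ x a, θ x a = fr.phi0 (x : P) a * (fr.phi0 (x : P) 1)⁻¹ := fun x a => rfl
  let θ' : X →* RingAut fr.F := MonoidHom.mk' θ fun x y => by
    refine RingEquiv.ext fun a => ?_
    show θ (x * y) a = θ x (θ y a)
    rw [hθ, hθ, hθ, Subgroup.coe_mul, fr.phi0_mul (hXN y.2), fr.phi0_mul (hXN y.2)]
    have e := fr.phi0_key (hXN x.2) (fr.phi0 (y : P) a * (fr.phi0 (y : P) 1)⁻¹) (fr.phi0 (y : P) 1)
    rw [inv_mul_cancel_right₀ (hk y)] at e
    have hk2 := fr.phi0_ne (hXN x.2) (hk y)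
    generalize fr.phi0 (x : P) (fr.phi0 (y : P) a * (fr.phi0 (y : P) 1)⁻¹) = u at e ⊢
    field_simp [hk x, hk2]
    linear_combination e
  set Φ := θ'.range with hΦ
  haveI : Finite (RingAut fr.F) := Finite.of_injective (fun σ : RingAut fr.F => (σ : fr.F → fr.F))
    DFunLike.coe_injective
  haveI := Fintype.ofFinite Φ
  haveI : FaithfulSMul Φ fr.F := ⟨fun {a b} hab => Subtype.ext (RingEquiv.ext hab)⟩
  set K := FixedPoints.subfield Φ fr.F with hK
  have hKF : Nat.card fr.F = Nat.card K ^ Nat.card Φ := by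
    rw [Module.natCard_eq_pow_finrank (K := K) (V := fr.F),
      FixedPoints.finrank_eq_card, Nat.card_eq_fintype_card (α := Φ)]
  have hKp : p ≤ Nat.card K := by
    have e : Function.Injective (fun i : Fin p => ((i : ℕ) : K)) := fun i j hij => by
      have e1 : ((i : ℕ) : fr.F) = ((j : ℕ) : fr.F) := by
        simpa using congrArg (fun w : K => (w : fr.F)) hij
      exact Fin.ext (CharP.natCast_injOn_Iio fr.F p i.2 j.2 e1)
    simpa using Nat.card_le_card_of_injective _ e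
  set X1 := θ'.ker.map X.subtype with hX1
  have hX1X : X1 ≤ X := Subgroup.map_subtype_le _
  have hker : ∀ x : X, θ' x = 1 → ∀ a, fr.phi0 (x : P) a = a := by
    intro x hx a
    have h1 : ∀ a, fr.phi0 (x : P) a * (fr.phi0 (x : P) 1)⁻¹ = a := fun a => by
      rw [← hθ]; exact RingEquiv.congr_fun hx a
    have h2 : fr.phi0 (x : P) 1 = 1 := by
      have e := h1 f0
      rw [hfX x x.2, mul_eq_left₀ hf0] at e
      exact inv_eq_one.1 e
    have e := h1 a
    rwa [h2, inv_one, mul_one] at e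
  have hW0 : fr.ι0.range ≤ fix ρ X1 := by
    rintro _ ⟨a, rfl⟩ _ ⟨x, hx, rfl⟩
    show ρ (x : P) (fr.ι0 a) = fr.ι0 a
    rw [fr.act_ι0 (hXN x.2), hker x hx]
  have hfixX : fix ρ X ≤ fix ρ X1 := fix_anti ρ hX1X
  have hinfK : Nat.card ↥(fr.ι0.range ⊓ fix ρ X) ≤ Nat.card K := by
    have hmem : ∀ a : fr.F, fr.ι0 a ∈ fix ρ X → a * f0⁻¹ ∈ K := by
      intro a ha
      rintro ⟨_, x, rfl⟩
      show θ x (a * f0⁻¹) = a * f0⁻¹
      have e : fr.phi0 (x : P) a = a := by rw [Frame.phi0_apply, ha x x.2, Frame.pr0_ι0]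
      have e2 := fr.phi0_key (hXN x.2) (a * f0⁻¹) f0
      rw [inv_mul_cancel_right₀ hf0, e, hfX x x.2] at e2
      rw [hθ]
      field_simp [hk x, hf0] at e2 ⊢
      linear_combination -e2
    refine Nat.card_le_card_of_injective (fun v : ↥(fr.ι0.range ⊓ fix ρ X) =>
      (⟨fr.pr0 (v : V) * f0⁻¹, hmem _ (by
        obtain ⟨⟨a, ha⟩, hv⟩ := v.2
        rw [← ha, Frame.pr0_ι0, ha]; exact hv)⟩ : K)) ?_
    rintro ⟨v, ⟨a, rfl⟩, hv⟩ ⟨v', ⟨a', rfl⟩, hv'⟩ e
    have e1 := congrArg (fun w : K => (w : fr.F)) e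
    simp only [Frame.pr0_ι0] at e1
    obtain rfl := mul_right_cancel₀ (inv_ne_zero hf0) e1
    rfl
  have hm := card_mul_card_le hW0 hfixX
    (Z := fr.ι0.range ⊓ fix ρ X) fun v h1 h2 => ⟨h1, h2⟩
  have hrange : Nat.card fr.ι0.range = Nat.card fr.F :=
    (Nat.card_congr (AddMonoidHom.ofInjective (f := fr.ι0)
      fun a b e => by simpa using congrArg fr.pr0 e).toEquiv).symm
  have hb1 := h.bound (hXe.to_le hX1X)
  rw [meas, ← hXm, meas] at hb1
  have hcX1 : Nat.card X = Nat.card Φ * Nat.card X1 := by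
    rw [hX1, Subgroup.card_map_of_injective X.subtype_injective, ← θ'.ker.index_mul_card,
      Subgroup.index_ker]
  obtain ⟨k, hkΦ⟩ : ∃ k, Nat.card Φ = k + 1 :=
    Nat.exists_eq_succ_of_ne_zero Nat.card_pos.ne'
  have h1 : p ^ k ≤ k + 1 := by
    refine (Nat.pow_le_pow_left hKp k).trans ?_
    refine Nat.le_of_mul_le_mul_right ?_ (Nat.mul_pos (Nat.mul_pos (Nat.card_pos (α := K))
      (Nat.card_pos (α := fix ρ X))) (Nat.card_pos (α := X1)))
    calc Nat.card K ^ k * (Nat.card K * Nat.card (fix ρ X) * Nat.card X1)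
        = Nat.card X1 * (Nat.card fr.ι0.range * Nat.card (fix ρ X)) := by
          rw [hrange, hKF, hkΦ, pow_succ]; ring
      _ ≤ Nat.card X1 * (Nat.card (fix ρ X1) * Nat.card ↥(fr.ι0.range ⊓ fix ρ X)) :=
          Nat.mul_le_mul_left _ hm
      _ = Nat.card X1 * Nat.card (fix ρ X1) * Nat.card ↥(fr.ι0.range ⊓ fix ρ X) :=
          (mul_assoc _ _ _).symm
      _ ≤ Nat.card X * Nat.card (fix ρ X) * Nat.card K := Nat.mul_le_mul hb1 hinfK
      _ = _ := by rw [hcX1, hkΦ]; ring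
  have hk0 := pow_le_succ_iff hp3 h1
  have hΦ1 : θ'.range = ⊥ := Subgroup.eq_bot_of_card_eq _ (by
    show Nat.card Φ = 1
    rw [hkΦ, hk0])
  intro x hx c hc
  have hx1 : θ' ⟨x, hx⟩ = 1 := Subgroup.mem_bot.1 (hΦ1.le ⟨_, rfl⟩)
  exact (fr.phi1_eq_of_phi0 (hXN hx) (hker ⟨x, hx⟩ hx1) (n := 1)
    (by rw [pow_one]; exact hXe.1 x hx)).2 c hc

end Hyp

end CfsgLib.FocalOdd
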