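import Cfsg.Agent.Lib.FusionControl.OffenderPair

/-!
# Frames: an `SL₂` acting naturally modulo its fixed points, with a unipotent subgroup
-/

set_option autoImplicit false

namespace CfsgLib.FocalOdd

open Matrix CfsgLib.LocalEven.Pair CfsgLib.OffenderPair
open scoped MatrixGroups

variable {P : Type*} [Group P] {V : Type*} [AddCommGroup V]

/-- Elementary abelian `p`-subgroup. -/
def Elem (p : ℕ) (X : Subgroup P) : Prop :=
  (∀ a ∈ X, a ^ p = 1) ∧ ∀ a ∈ X, ∀ b ∈ X, a * b = b * a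

theorem Elem.isP {p : ℕ} {X : Subgroup P} (h : Elem p X) : IsPGroup p X :=
  fun g => ⟨1, Subtype.ext (by simpa using h.1 _ g.2)⟩

theorem Elem.to_le {p : ℕ} {X Y : Subgroup P} (h : Elem p X) (hY : Y ≤ X) : Elem p Y :=
  ⟨fun a ha => h.1 a (hY ha), fun a ha b hb => h.2 a (hY ha) b (hY hb)⟩

theorem Elem.map {p : ℕ} {X : Subgroup P} (h : Elem p X) {Q : Type*} [Group Q] (f : P →* Q) :
    Elem p (X.map f) := by
  constructor
  · rintro _ ⟨a, ha, rfl⟩
    rw [← map_pow, h.1 a ha, map_one]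
  · rintro _ ⟨a, ha, rfl⟩ _ ⟨b, hb, rfl⟩
    rw [← map_mul, h.2 a ha b hb, map_mul]

theorem Elem.sup {p : ℕ} {X Y : Subgroup P} (hX : Elem p X) (hY : Elem p Y)
    (hc : ∀ a ∈ X, ∀ b ∈ Y, a * b = b * a) : Elem p (X ⊔ Y) := by
  have hm : ∀ g ∈ X ⊔ Y, ∃ a ∈ X, ∃ b ∈ Y, g = a * b := by
    intro g hg
    have hN : Y ≤ Subgroup.normalizer (X : Set P) := fun b hb => by
      rw [Subgroup.mem_normalizer_iff]
      intro a
      constructor
      · intro ha
        rwa [← hc a ha b hb, mul_inv_cancel_right]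
      · intro ha
        have h1 := hc _ ha b⁻¹ (inv_mem hb)
        have h2 : b⁻¹ * (b * a * b⁻¹) * b = a := by group
        rw [← h2, ← h1]
        simpa using ha
    have h1 : g ∈ ((X ⊔ Y : Subgroup P) : Set P) := hg
    rw [Subgroup.coe_mul_of_right_le_normalizer_left X Y hN] at h1
    obtain ⟨a, ha, b, hb, rfl⟩ := h1
    exact ⟨a, ha, b, hb, rfl⟩
  constructor
  · intro g hg
    obtain ⟨a, ha, b, hb, rfl⟩ := hm g hg
    rw [(show Commute a b from hc a ha b hb).mul_pow, hX.1 a ha, hY.1 b hb, one_mul]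
  · intro g hg g' hg'
    obtain ⟨a, ha, b, hb, rfl⟩ := hm g hg
    obtain ⟨a', ha', b', hb', rfl⟩ := hm g' hg'
    rw [mul_assoc a b, ← mul_assoc b a', ← hc a' ha' b hb, mul_assoc a', hY.2 b hb b' hb',
      ← mul_assoc a, hX.2 a ha a' ha', mul_assoc a', ← mul_assoc a, hc a ha b' hb', mul_assoc b',
      ← mul_assoc a']

/-- Upper unitriangular. -/
def UT {F : Type*} [Field F] (g : SpecialLinearGroup (Fin 2) F) : Prop :=
  (g : Matrix (Fin 2) (Fin 2) F) 0 0 = 1 ∧ (g : Matrix (Fin 2) (Fin 2) F) 1 0 = 0 ∧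
    (g : Matrix (Fin 2) (Fin 2) F) 1 1 = 1

/-- The unitriangular element with corner `s`. -/
def uni {F : Type*} [Field F] (s : F) : SpecialLinearGroup (Fin 2) F :=
  ⟨!![1, s; 0, 1], by simp [Matrix.det_fin_two]⟩

theorem uni_UT {F : Type*} [Field F] (s : F) : UT (uni s) := by simp [UT, uni]

theorem UT.eq_uni {F : Type*} [Field F] {g : SpecialLinearGroup (Fin 2) F} (h : UT g) :
    g = uni ((g : Matrix (Fin 2) (Fin 2) F) 0 1) := by
  obtain ⟨h0, h1, h2⟩ := h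
  refine Subtype.ext (Matrix.ext fun i j => ?_)
  fin_cases i <;> fin_cases j <;> simp [uni, h0, h1, h2]

theorem uni_zero {F : Type*} [Field F] : uni (0 : F) = 1 := by
  refine Subtype.ext (Matrix.ext fun i j => ?_)
  fin_cases i <;> fin_cases j <;> simp [uni]

theorem uni_mulVec {F : Type*} [Field F] (s : F) (x : Fin 2 → F) :
    (uni s : Matrix (Fin 2) (Fin 2) F) *ᵥ x = ![x 0 + s * x 1, x 1] := by
  ext i
  fin_cases i <;> simp [uni, Matrix.mulVec, dotProduct, Fin.sum_univ_two]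

theorem uni_injective {F : Type*} [Field F] : Function.Injective (uni (F := F)) := fun s t h => by
  have := congrArg (fun g : SpecialLinearGroup (Fin 2) F => (g : Matrix (Fin 2) (Fin 2) F) 0 1) h
  simpa [uni] using this

variable (ρ : P →* AddMonoid.End V)

/-- An `SL₂(F)` with the unipotent subgroup `C`, natural modulo its fixed points. -/
structure Frame (p : ℕ) (C : Subgroup P) where
  F : Type
  instF : Field F
  instFin : Fintype F
  H : Subgroup P
  le : C ≤ H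
  φ : H ≃* @SpecialLinearGroup (Fin 2) _ _ F _
  hC : ∀ h : H, (h : P) ∈ C ↔ UT (φ h)
  χ : V →+ (Fin 2 → F)
  surj : Function.Surjective χ
  equiv : ∀ (h : H) (v : V),
    χ (ρ (h : P) v) = (φ h : Matrix (Fin 2) (Fin 2) F) *ᵥ χ v
  ker : ∀ v, χ v = 0 → ∀ h ∈ H, ρ h v = v
  ppos : ∀ v : V, p • v = 0
  podd : Odd p
  pprime : p.Prime

attribute [instance] Frame.instF Frame.instFin

namespace Frame

variable {ρ} {p : ℕ} {C : Subgroup P} (fr : Frame ρ p C)

/-- Transport along conjugation by `g`. -/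
noncomputable def conj (g : P) : Frame ρ p (C.map (MulAut.conj g).toMonoidHom) where
  F := fr.F
  instF := fr.instF
  instFin := fr.instFin
  H := fr.H.map (MulAut.conj g).toMonoidHom
  le := Subgroup.map_mono fr.le
  φ := ((fr.H.equivMapOfInjective (MulAut.conj g).toMonoidHom (MulAut.conj g).injective).symm).trans
    fr.φ
  hC := by
    intro h
    obtain ⟨h', rfl⟩ := (fr.H.equivMapOfInjective (MulAut.conj g).toMonoidHom
      (MulAut.conj g).injective).surjective h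
    simp only [MulEquiv.trans_apply, MulEquiv.symm_apply_apply]
    rw [← fr.hC h']
    exact Subgroup.mem_map_iff_mem (MulAut.conj g).injective
  χ := fr.χ.comp (show V →+ V from ρ g⁻¹)
  surj := fun x => by
    obtain ⟨v, rfl⟩ := fr.surj x
    exact ⟨ρ g v, congrArg fr.χ (act_inv_act ρ g v)⟩
  equiv := by
    intro h v
    obtain ⟨h', rfl⟩ := (fr.H.equivMapOfInjective (MulAut.conj g).toMonoidHom
      (MulAut.conj g).injective).surjective h
    simp only [MulEquiv.trans_apply, MulEquiv.symm_apply_apply]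
    show fr.χ (ρ g⁻¹ (ρ (g * h' * g⁻¹) v)) = _ *ᵥ fr.χ (ρ g⁻¹ v)
    rw [← fr.equiv, ← act_mul, ← act_mul]
    congr 3
    group
  ker := by
    rintro v hv _ ⟨h, hh, rfl⟩
    have h1 : ρ h (ρ g⁻¹ v) = ρ g⁻¹ v := fr.ker _ hv h hh
    show ρ (g * h * g⁻¹) v = v
    rw [act_mul, act_mul, h1, act_act_inv]
  ppos := fr.ppos
  podd := fr.podd
  pprime := fr.pprime

theorem conj_H (g : P) : (fr.conj g).H = fr.H.map (MulAut.conj g).toMonoidHom := rfl

/-- The element of `C` with corner `s`. -/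
def cEl (s : fr.F) : P := (fr.φ.symm (uni s) : fr.H)

theorem cEl_mem (s : fr.F) : fr.cEl s ∈ C := by
  rw [cEl, fr.hC, MulEquiv.apply_symm_apply]
  exact uni_UT s

theorem exists_cEl {c : P} (hc : c ∈ C) : ∃ s, c = fr.cEl s := by
  have h := (fr.hC ⟨c, fr.le hc⟩).1 hc
  refine ⟨(fr.φ ⟨c, fr.le hc⟩ : Matrix (Fin 2) (Fin 2) fr.F) 0 1, ?_⟩
  rw [cEl, ← h.eq_uni, MulEquiv.symm_apply_apply]

theorem cEl_injective : Function.Injective fr.cEl := fun _ _ h =>
  uni_injective (fr.φ.symm.injective (Subtype.ext h))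

theorem card_C : Nat.card C = Nat.card fr.F :=
  (Nat.card_eq_of_bijective (fun s => (⟨fr.cEl s, fr.cEl_mem s⟩ : C))
    ⟨fun s t h => fr.cEl_injective (congrArg (fun x : C => (x : P)) h :), fun ⟨c, hc⟩ => by
      obtain ⟨s, rfl⟩ := fr.exists_cEl hc
      exact ⟨s, rfl⟩⟩).symm

theorem one_lt_card : 1 < Nat.card fr.F := Finite.one_lt_card

theorem two_ne : (2 : fr.F) ≠ 0 := by
  intro h
  obtain ⟨m, hm⟩ := fr.podd
  obtain ⟨v, hv⟩ := fr.surj ![1, 0]
  have h1 := congrArg (fun w => fr.χ w 0) (fr.ppos v)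
  simp [map_nsmul, hv, hm, h] at h1

theorem natCast_p : (p : fr.F) = 0 := by
  obtain ⟨v, hv⟩ := fr.surj ![1, 0]
  have h1 := congrArg (fun w => fr.χ w 0) (fr.ppos v)
  simpa [map_nsmul, hv] using h1

/-- The central involution. -/
def τ : P := (fr.φ.symm (-1) : fr.H)

theorem τ_mem : fr.τ ∈ fr.H := SetLike.coe_mem _

theorem τ_comm {h : P} (hh : h ∈ fr.H) : fr.τ * h = h * fr.τ := by
  have key : (fr.φ.symm (-1) : fr.H) * ⟨h, hh⟩ = ⟨h, hh⟩ * fr.φ.symm (-1) := by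
    apply fr.φ.injective
    simp
  exact congrArg Subtype.val key

theorem τ_mul_self : fr.τ * fr.τ = 1 := by
  rw [τ, ← Subgroup.coe_mul, ← map_mul, neg_one_mul, neg_neg, map_one, Subgroup.coe_one]

theorem τ_inv : fr.τ⁻¹ = fr.τ := inv_eq_of_mul_eq_one_right fr.τ_mul_self

theorem χ_τ (v : V) : fr.χ (ρ fr.τ v) = -fr.χ v := by
  rw [τ, fr.equiv, MulEquiv.apply_symm_apply, Matrix.SpecialLinearGroup.coe_neg,
    Matrix.SpecialLinearGroup.coe_one, Matrix.neg_mulVec, Matrix.one_mulVec]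

theorem τ_fix {v : V} (hv : fr.χ v = 0) : ρ fr.τ v = v := fr.ker v hv _ fr.τ_mem

theorem τ_τ (v : V) : ρ fr.τ (ρ fr.τ v) = v := by rw [← act_mul, τ_mul_self, act_one]

theorem τ_eq_iff {v : V} : ρ fr.τ v = v ↔ fr.χ v = 0 := by
  refine ⟨fun h => ?_, fr.τ_fix⟩
  have h1 := fr.χ_τ v
  rw [h] at h1
  ext i
  have h2 : fr.χ v i = -(fr.χ v i) := congrFun h1 i
  have h3 : (2 : fr.F) * fr.χ v i = 0 := by rw [two_mul]; exact eq_neg_iff_add_eq_zero.1 h2
  exact (mul_eq_zero.1 h3).resolve_left fr.two_ne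

/-- Projection on the `-1`-eigenspace of `τ`. -/
noncomputable def π : V →+ V :=
  ((p + 1) / 2) • (AddMonoidHom.id V - (show V →+ V from ρ fr.τ))

theorem π_apply (v : V) : fr.π v = ((p + 1) / 2) • (v - ρ fr.τ v) := rfl

include fr in
theorem half_two (v : V) : ((p + 1) / 2) • (v + v) = v := by
  obtain ⟨m, hm⟩ := fr.podd
  have h2 : (p + 1) / 2 = m + 1 := by omega
  rw [h2, ← two_nsmul, ← mul_nsmul', show (m + 1) * 2 = p + 1 by omega, succ_nsmul, fr.ppos,
    zero_add]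

theorem τ_π (v : V) : ρ fr.τ (fr.π v) = -fr.π v := by
  rw [π_apply, map_nsmul, map_sub, τ_τ, ← smul_neg, neg_sub]

theorem π_of_fix {v : V} (h : ρ fr.τ v = v) : fr.π v = 0 := by
  rw [π_apply, h, sub_self, smul_zero]

theorem π_of_anti {v : V} (h : ρ fr.τ v = -v) : fr.π v = v := by
  rw [π_apply, h, sub_neg_eq_add, fr.half_two]

theorem χ_π (v : V) : fr.χ (fr.π v) = fr.χ v := by
  rw [π_apply, smul_sub, map_sub, map_nsmul, map_nsmul, χ_τ, smul_neg, sub_neg_eq_add, ← smul_add,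
    ← map_add, ← map_nsmul, fr.half_two]

/-- The fixed part. -/
noncomputable def uP : V →+ V := AddMonoidHom.id V - fr.π

theorem uP_apply (v : V) : fr.uP v = v - fr.π v := rfl

theorem χ_uP (v : V) : fr.χ (fr.uP v) = 0 := by rw [uP_apply, map_sub, χ_π, sub_self]

theorem uP_of_χ {v : V} (h : fr.χ v = 0) : fr.uP v = v := by
  rw [uP_apply, fr.π_of_fix (fr.τ_fix h), sub_zero]

theorem π_congr {v w : V} (h : fr.χ v = fr.χ w) : fr.π v = fr.π w := by
  have h1 : fr.χ (v - w) = 0 := by rw [map_sub, h, sub_self]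
  rw [← sub_eq_zero, ← map_sub]
  exact fr.π_of_fix (fr.τ_fix h1)

/-- The section of `χ` in the `-1`-eigenspace. -/
noncomputable def ι : (Fin 2 → fr.F) →+ V :=
  AddMonoidHom.mk' (fun x => fr.π (Function.surjInv fr.surj x)) fun x y => by
    rw [← map_add]
    exact fr.π_congr (by simp [Function.surjInv_eq fr.surj])

theorem ι_χ (v : V) : fr.ι (fr.χ v) = fr.π v := fr.π_congr (Function.surjInv_eq fr.surj _)

theorem χ_ι (x : Fin 2 → fr.F) : fr.χ (fr.ι x) = x := by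
  obtain ⟨v, rfl⟩ := fr.surj x
  rw [ι_χ, χ_π]

theorem τ_ι (x : Fin 2 → fr.F) : ρ fr.τ (fr.ι x) = -fr.ι x := by
  obtain ⟨v, rfl⟩ := fr.surj x
  rw [ι_χ, τ_π]

theorem π_ι (x : Fin 2 → fr.F) : fr.π (fr.ι x) = fr.ι x := fr.π_of_anti (fr.τ_ι x)

theorem uP_ι (x : Fin 2 → fr.F) : fr.uP (fr.ι x) = 0 := by rw [uP_apply, π_ι, sub_self]

theorem decomp (v : V) : fr.ι (fr.χ v) + fr.uP v = v := by rw [ι_χ, uP_apply, add_sub_cancel]

theorem ext_coord {v w : V} (h1 : fr.χ v = fr.χ w) (h2 : fr.uP v = fr.uP w) : v = w := by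
  rw [← fr.decomp v, h1, h2, fr.decomp w]

theorem act_H (h : fr.H) (v : V) :
    ρ (h : P) v = fr.ι ((fr.φ h : Matrix (Fin 2) (Fin 2) fr.F) *ᵥ fr.χ v) + fr.uP v := by
  conv_lhs => rw [← fr.decomp v, map_add, fr.ker _ (fr.χ_uP v) _ h.2]
  congr 1
  have h1 : ρ fr.τ (ρ (h : P) (fr.ι (fr.χ v))) = -ρ (h : P) (fr.ι (fr.χ v)) := by
    rw [← act_mul, fr.τ_comm h.2, act_mul, τ_ι, map_neg]
  rw [← fr.π_of_anti h1, ← fr.ι_χ, fr.equiv, χ_ι]

/-- The first basis line. -/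
noncomputable def ι0 : fr.F →+ V :=
  AddMonoidHom.mk' (fun a => fr.ι ![a, 0]) fun a b => by rw [← map_add]; simp

/-- The second basis line. -/
noncomputable def ι2 : fr.F →+ V :=
  AddMonoidHom.mk' (fun a => fr.ι ![0, a]) fun a b => by rw [← map_add]; simp

theorem ι0_apply (a : fr.F) : fr.ι0 a = fr.ι ![a, 0] := rfl

theorem ι2_apply (a : fr.F) : fr.ι2 a = fr.ι ![0, a] := rfl

/-- The first coordinate. -/
def pr0 : V →+ fr.F :=
  AddMonoidHom.mk' (fun v => fr.χ v 0) fun a b => by rw [map_add]; rfl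

/-- The second coordinate. -/
def pr1 : V →+ fr.F :=
  AddMonoidHom.mk' (fun v => fr.χ v 1) fun a b => by rw [map_add]; rfl

theorem pr0_apply (v : V) : fr.pr0 v = fr.χ v 0 := rfl

theorem pr1_apply (v : V) : fr.pr1 v = fr.χ v 1 := rfl

@[simp] theorem pr0_ι0 (a : fr.F) : fr.pr0 (fr.ι0 a) = a := by simp [pr0_apply, ι0_apply, χ_ι]

@[simp] theorem pr1_ι0 (a : fr.F) : fr.pr1 (fr.ι0 a) = 0 := by simp [pr1_apply, ι0_apply, χ_ι]

@[simp] theorem pr0_ι2 (a : fr.F) : fr.pr0 (fr.ι2 a) = 0 := by simp [pr0_apply, ι2_apply, χ_ι]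

@[simp] theorem pr1_ι2 (a : fr.F) : fr.pr1 (fr.ι2 a) = a := by simp [pr1_apply, ι2_apply, χ_ι]

@[simp] theorem uP_ι0 (a : fr.F) : fr.uP (fr.ι0 a) = 0 := fr.uP_ι _

@[simp] theorem uP_ι2 (a : fr.F) : fr.uP (fr.ι2 a) = 0 := fr.uP_ι _

@[simp] theorem pr0_uP (v : V) : fr.pr0 (fr.uP v) = 0 := by simp [pr0_apply, χ_uP]

@[simp] theorem pr1_uP (v : V) : fr.pr1 (fr.uP v) = 0 := by simp [pr1_apply, χ_uP]

@[simp] theorem uP_uP (v : V) : fr.uP (fr.uP v) = fr.uP v := fr.uP_of_χ (fr.χ_uP v)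

theorem pr_ext {v w : V} (h0 : fr.pr0 v = fr.pr0 w) (h1 : fr.pr1 v = fr.pr1 w)
    (h2 : fr.uP v = fr.uP w) : v = w :=
  fr.ext_coord (by ext i; fin_cases i <;> assumption) h2

theorem decomp3 (v : V) : fr.ι0 (fr.pr0 v) + fr.ι2 (fr.pr1 v) + fr.uP v = v := by
  refine fr.pr_ext ?_ ?_ ?_ <;> simp

theorem cEl_act (s : fr.F) (v : V) : ρ (fr.cEl s) v = v + fr.ι0 (s * fr.pr1 v) := by
  rw [cEl, act_H, MulEquiv.apply_symm_apply, uni_mulVec]
  refine fr.pr_ext ?_ ?_ ?_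
  · simp [pr0_apply, pr1_apply, χ_ι, χ_uP, ι0_apply]
  · simp [pr1_apply, χ_ι, χ_uP, ι0_apply]
  · simp [uP_ι]

/-- The fixed points of `C`. -/
theorem mem_fix_iff {v : V} : v ∈ fix ρ C ↔ fr.pr1 v = 0 := by
  constructor
  · intro h
    have h1 := h _ (fr.cEl_mem 1)
    rw [cEl_act, one_mul, add_eq_left] at h1
    have := congrArg fr.pr0 h1
    simpa using this
  · intro h c hc
    obtain ⟨s, rfl⟩ := fr.exists_cEl hc
    rw [cEl_act, h, mul_zero, map_zero, add_zero]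

/-- Only the trivial element of `C` fixes more. -/
theorem fix_cEl_iff {s : fr.F} (hs : s ≠ 0) {v : V} : ρ (fr.cEl s) v = v ↔ fr.pr1 v = 0 := by
  rw [cEl_act, add_eq_left]
  constructor
  · intro h
    have := congrArg fr.pr0 h
    simpa [hs] using this
  · intro h
    simp [h]

theorem card_fix_mul : Nat.card (fix ρ C) * Nat.card fr.F = Nat.card V := by
  have hk : fr.pr1.ker = fix ρ C := by
    ext v
    rw [AddMonoidHom.mem_ker, fr.mem_fix_iff]
  have h := fr.pr1.ker.index_mul_card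
  rw [AddSubgroup.index_ker, AddMonoidHom.range_eq_top.2 fun a => ⟨fr.ι2 a, fr.pr1_ι2 a⟩,
    AddSubgroup.card_top, hk, mul_comm] at h
  exact h

include fr in
theorem meas_eq : meas ρ C = Nat.card V := by
  rw [meas, fr.card_C, mul_comm, fr.card_fix_mul]

include fr in
theorem C_ne_bot [Finite P] : C ≠ ⊥ := by
  intro h
  have h1 := fr.card_C
  have h2 := fr.one_lt_card
  rw [Subgroup.card_eq_one.2 h] at h1
  omega

end Frame

end CfsgLib.FocalOdd
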