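import Cfsg.Agent.Lib.FocalOdd.Fix

/-!
# A group with an offender and a unique maximal subgroup over its Sylow subgroup is `SL₂`
-/

set_option autoImplicit false
set_option linter.unusedSectionVars false

namespace CfsgLib.FocalOdd

open Matrix CfsgLib.LocalEven.Pair CfsgLib.OffenderPair
open scoped MatrixGroups

/-- An additive map with this symmetry vanishes. -/
theorem gamma_eq_zero {F : Type*} [Field F] (h2 : (2 : F) ≠ 0) (d : F →+ F) (hd1 : d 1 = 0)
    (he : ∀ a b : F, a ≠ 0 → b ≠ 0 → a * b * d (a * b) = b * d b + b ^ 2 * (a * d a)) (x : F) :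
    d x = 0 := by
  by_cases hall : ∀ a : F, a ≠ 0 → a ^ 2 = 1
  · rcases eq_or_ne x 0 with rfl | hx
    · exact map_zero d
    rcases sq_eq_one_iff.1 (hall x hx) with rfl | rfl
    · exact hd1
    · rw [map_neg, hd1, neg_zero]
  push Not at hall
  obtain ⟨a, ha, ha2⟩ := hall
  have hsym : ∀ b : F, b ≠ 0 → b * d b * (1 - a ^ 2) = a * d a * (1 - b ^ 2) := fun b hb => by
    have e1 := he a b ha hb
    have e2 := he b a hb ha
    rw [mul_comm b a] at e2
    linear_combination e2 - e1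
  have ha2' : (1 : F) - a ^ 2 ≠ 0 := sub_ne_zero.2 (Ne.symm ha2)
  set k := a * d a / (1 - a ^ 2) with hk
  have hk' : ∀ b : F, b ≠ 0 → b * d b = k * (1 - b ^ 2) := fun b hb => by
    rw [hk, div_mul_eq_mul_div, eq_div_iff ha2']
    exact hsym b hb
  have hb3 : ∀ b : F, b ≠ 0 → b ≠ -1 → k * (b ^ 2 + b + 1) = 0 := by
    intro b hb hb'
    have hb1 : 1 + b ≠ 0 := fun h => hb' (eq_neg_of_add_eq_zero_right h)
    have e1 := hk' b hb
    have e2 := hk' _ hb1
    rw [map_add, hd1, zero_add] at e2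
    linear_combination b * e2 - (1 + b) * e1
  have hk0 : k = 0 := by
    by_contra hk0
    have h1 : (1 : F) ≠ -1 := fun h => h2 (by linear_combination h)
    have e1 := (mul_eq_zero.1 (hb3 1 one_ne_zero h1)).resolve_left hk0
    have e2 := (mul_eq_zero.1 (hb3 a ha (fun h => ha2 (by rw [h]; ring)))).resolve_left hk0
    have e3 : (a - 1) ^ 2 = 0 := by linear_combination e2 - a * e1
    exact ha2 (by rw [sub_eq_zero.1 (eq_zero_of_pow_eq_zero e3), one_pow])
  rcases eq_or_ne x 0 with rfl | hx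
  · exact map_zero d
  · have e := hk' x hx
    rw [hk0, zero_mul] at e
    exact (mul_eq_zero.1 e).resolve_left hx

variable {P : Type*} [Group P] {V : Type*} [AddCommGroup V] {ρ : P →* AddMonoid.End V}
  {p : ℕ} [Fact p.Prime] [Finite P] [Finite V] {T : Sylow p P} {M C : Subgroup P}

namespace Hyp

/-- The exact offenders in `T` centralize a frame in `T`. -/
theorem offJ_comm (h : Hyp ρ p T M) (fr : Frame ρ p C) (hCT : C ≤ (T : Subgroup P)) :
    C ≤ offJ ρ p (T : Subgroup P) ∧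
      ∀ x ∈ offJ ρ p (T : Subgroup P), ∀ c ∈ C, x * c = c * x := by
  have hCE : C ∈ Exact ρ p := ⟨fr.elem, fr.meas_eq⟩
  refine ⟨le_famJoin hCE hCT, ?_⟩
  obtain ⟨Q, ⟨hQf, hQT, hCQ, hQC⟩, hQmax⟩ := Set.exists_max_image
    {Q : Subgroup P | famJoin (Exact ρ p) Q = Q ∧ Q ≤ (T : Subgroup P) ∧ C ≤ Q ∧
      ∀ x ∈ Q, ∀ c ∈ C, x * c = c * x}
    (fun Q => Nat.card Q) (Set.toFinite _)
    ⟨C, le_antisymm (famJoin_le _ _) (le_famJoin hCE le_rfl), hCT, le_rfl, fr.elem.2⟩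
  suffices hJQ : offJ ρ p (T : Subgroup P) ≤ Q from fun x hx => hQC x (hJQ hx)
  by_contra hJQ
  set N := (T : Subgroup P) ⊓ Subgroup.normalizer (Q : Set P) with hN
  obtain ⟨X, hX, hXN, hXQ⟩ : ∃ X ∈ Exact ρ p, X ≤ N ∧ ¬ X ≤ Q := by
    by_contra hcon
    push Not at hcon
    have hQN : Q ≤ N := le_inf hQT Subgroup.le_normalizer
    have hJ : famJoin (Exact ρ p) N = Q := le_antisymm (sSup_le fun F hF => hcon F hF.1 hF.2)
      (hQf.ge.trans (sSup_le fun F hF => le_famJoin hF.1 (hF.2.trans hQN)))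
    have hNT : N = (T : Subgroup P) := by
      by_contra hne
      have hlt : N.subgroupOf (T : Subgroup P) < ⊤ := by
        rw [lt_top_iff_ne_top, Ne, Subgroup.subgroupOf_eq_top]
        exact fun h => hne (le_antisymm inf_le_left h)
      have : Group.IsNilpotent (T : Subgroup P) := T.2.isNilpotent
      obtain ⟨g, hgn, hgN⟩ := Set.exists_of_ssubset
        (Group.normalizerCondition_of_isNilpotent (G := (T : Subgroup P)) _ hlt)
      refine hgN (Subgroup.mem_subgroupOf.2 ⟨g.2, ?_⟩)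
      have hgN' : (g : P) ∈ Subgroup.normalizer (N : Set P) := by
        rw [Subgroup.mem_normalizer_iff]
        intro y
        constructor
        · intro hy
          exact (Subgroup.mem_normalizer_iff.1 hgn ⟨y, hy.1⟩).1 hy
        · intro hy
          have hy' : y ∈ (T : Subgroup P) := by
            have h3 := mul_mem (mul_mem (inv_mem g.2) hy.1) g.2
            simpa [mul_assoc] using h3
          exact (Subgroup.mem_normalizer_iff.1 hgn ⟨y, hy'⟩).2 hy
      exact hJ ▸ normalizer_le_normalizer_famJoin exact_conj N hgN'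
    exact hJQ (by rw [offJ, ← hNT, hJ])
  set Z := Q ⊓ Subgroup.centralizer (Q : Set P) with hZ
  have hconjZ : ∀ g ∈ Subgroup.normalizer (Q : Set P), ∀ y ∈ Z, g * y * g⁻¹ ∈ Z := by
    rintro g hg y ⟨hy1, hy2⟩
    refine ⟨(Subgroup.mem_normalizer_iff.1 hg y).1 hy1, Subgroup.mem_centralizer_iff.2 fun q hq => ?_⟩
    have h1 : g⁻¹ * q * g ∈ Q := (Subgroup.mem_normalizer_iff''.1 hg q).1 hq
    have e := Subgroup.mem_centralizer_iff.1 hy2 _ h1
    calc q * (g * y * g⁻¹) = g * (g⁻¹ * q * g * y) * g⁻¹ := by group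
      _ = g * (y * (g⁻¹ * q * g)) * g⁻¹ := by rw [e]
      _ = g * y * g⁻¹ * q := by group
  have hXZ : X ≤ Subgroup.normalizer (Z : Set P) := fun g hg => by
    rw [Subgroup.mem_normalizer_iff]
    refine fun y => ⟨hconjZ g (hXN hg).2 y, fun hy => ?_⟩
    have h1 := hconjZ g⁻¹ (inv_mem (hXN hg).2) _ hy
    simpa [mul_assoc] using h1
  have hCZ : C ≤ Z := fun c hc => ⟨hCQ hc,
    Subgroup.mem_centralizer_iff.2 fun q hq => hQC q hq c hc⟩
  have hcomm := h.centralizes_frame (Z := Z) hX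
    (fun a ha b hb => (Subgroup.mem_centralizer_iff.1 hb.2 a ha.1)) hXZ fr hCZ
  have hQX : famJoin (Exact ρ p) (Q ⊔ X) = Q ⊔ X := le_antisymm (famJoin_le _ _)
    (sup_le (hQf.ge.trans (sSup_le fun F hF => le_famJoin hF.1 (hF.2.trans le_sup_left)))
      (le_famJoin hX le_sup_right))
  have hle : Q ⊔ X ≤ Subgroup.centralizer (C : Set P) := sup_le
    (fun x hx => Subgroup.mem_centralizer_iff.2 fun c hc => (hQC x hx c hc).symm)
    fun x hx => Subgroup.mem_centralizer_iff.2 fun c hc => (hcomm x hx c hc).symm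
  have h1 := hQmax (Q ⊔ X) ⟨hQX, sup_le hQT (hXN.trans inf_le_left), hCQ.trans le_sup_left,
    fun x hx c hc => (Subgroup.mem_centralizer_iff.1 (hle hx) c hc).symm⟩
  exact hXQ (le_sup_right.trans (Subgroup.eq_of_le_of_card_ge le_sup_left h1).ge)

theorem offJp_le_normalizer (h : Hyp ρ p T M) (fr : Frame ρ p C) (hCT : C ≤ (T : Subgroup P)) :
    offJp ρ p (T : Subgroup P) ≤ Subgroup.normalizer (C : Set P) := by
  obtain ⟨-, hJc⟩ := h.offJ_comm fr hCT
  intro x hx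
  refine CfsgLib.PLocal.mem_normalizer_of_map_conj_eq ?_
  by_contra hne
  set D := C.map (MulAut.conj x).toMonoidHom with hD
  have hDT : D ≤ (T : Subgroup P) := by
    rintro _ ⟨c, hc, rfl⟩
    exact mul_mem (mul_mem hx.1 (hCT hc)) (inv_mem hx.1)
  have hDJ : D ≤ offJ ρ p (T : Subgroup P) :=
    le_famJoin (exact_conj _ ⟨fr.elem, fr.meas_eq⟩ x) hDT
  have hJN : offJ ρ p (T : Subgroup P) ≤ Subgroup.normalizer (C : Set P) := fun y hy => by
    rw [Subgroup.mem_normalizer_iff]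
    intro c
    constructor
    · intro hc
      rwa [hJc y hy c hc, mul_inv_cancel_right]
    · intro hc
      have e := hJc y hy _ hc
      rw [inv_mul_cancel_right] at e
      rw [← mul_left_cancel e]
      exact hc
  obtain ⟨a0, ha0, hfix⟩ := fr.exists_phi0_fixed (T.2.to_le (famJoin_le _ _)) hJN
  have hxv : ρ x (fr.ι0 a0) = fr.ι0 a0 := hx.2 _ fun y hy => by rw [fr.act_ι0 (hJN hy), hfix y hy]
  have hcm : x * fr.cEl 1 * x⁻¹ ∈ D := ⟨_, fr.cEl_mem 1, rfl⟩
  have e := (fr.orth h (fr.conj x) (fun a ha b hb => (hJc b (hDJ hb) a ha).symm) hne hcm).2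
    (ρ x (fr.ι2 a0))
  rw [act_mul, act_mul, act_inv_act, ← map_sub, fr.cEl_act, Frame.pr1_ι2, one_mul,
    add_sub_cancel_left, hxv] at e
  have e0 := congrFun e 0
  rw [← Frame.pr0_apply, Frame.pr0_ι0] at e0
  exact ha0 e0

set_option maxHeartbeats 800000 in
/-- The structure theorem. -/
theorem exists_frame_top (h : Hyp ρ p T M) :
    ∃ C : Subgroup P, C = (T : Subgroup P) ∧ ∃ fr : Frame ρ p C, fr.H = ⊤ := by
  classical
  obtain ⟨C, hCT, -, fr, hHM⟩ := h.exists_good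
  obtain ⟨hCJ, hJc⟩ := h.offJ_comm fr hCT
  have hJpN := h.offJp_le_normalizer fr hCT
  have hJN : offJ ρ p (T : Subgroup P) ≤ Subgroup.normalizer (C : Set P) :=
    (offJ_le_offJp _).trans hJpN
  obtain ⟨a0, ha0, hfix⟩ := fr.exists_phi0_fixed (T.2.to_le (famJoin_le _ _)) hJN
  have hpr1 : ∀ x ∈ Subgroup.normalizer (C : Set P), ∀ v,
      fr.pr1 (ρ x v) = fr.phi1 x (fr.pr1 v) := by
    intro x hx v
    have e := fr.norm_W hx (v := v - fr.ι2 (fr.pr1 v)) (by rw [map_sub, Frame.pr1_ι2, sub_self])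
    rw [map_sub, map_sub, sub_eq_zero] at e
    exact e
  have hιpres : ∀ x ∈ Subgroup.normalizer (C : Set P), ∀ y, ∃ z, ρ x (fr.ι y) = fr.ι z :=
    fun x hx y => ⟨fr.χ (ρ x (fr.ι y)), by rw [fr.ι_χ, fr.π_comm h hx, fr.π_ι]⟩
  have hUpres : ∀ x ∈ Subgroup.normalizer (C : Set P), ∀ v, fr.χ v = 0 → fr.χ (ρ x v) = 0 :=
    fun x hx v hv => by rw [← fr.χ_π, fr.π_comm h hx, fr.π_of_fix (fr.τ_fix hv), map_zero, map_zero]
  -- the part trivial on the natural module
  set R0 := (T : Subgroup P) ⊓ Subgroup.normalizer (C : Set P) ⊓ pstab ρ fr.ι.range with hR0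
  have hR0H : ∀ r ∈ R0, ∀ g ∈ fr.H, g * r = r * g := by
    rintro r ⟨⟨-, hrN⟩, hrι⟩ g hg
    refine (inv_mul_eq_one.1 (h.faithful _ fun v => ?_)).symm
    have hru : fr.χ (ρ r (fr.uP v)) = 0 := hUpres r hrN _ (fr.χ_uP v)
    have e1 : ∀ y, ρ g (fr.ι y) = fr.ι ((fr.φ ⟨g, hg⟩ : Matrix (Fin 2) (Fin 2) fr.F) *ᵥ y) := fun y => by
      have e := fr.act_H ⟨g, hg⟩ (fr.ι y)
      rwa [fr.χ_ι, fr.uP_ι, add_zero] at e
    have hri : ∀ y, ρ r (fr.ι y) = fr.ι y := fun y => hrι _ ⟨y, rfl⟩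
    have e : ρ (r * g) v = ρ (g * r) v := by
      rw [← fr.decomp v, map_add, map_add, act_mul, act_mul, act_mul, act_mul, e1, hri, hri, e1,
        fr.ker _ (fr.χ_uP v) g hg, fr.ker _ hru g hg]
    rw [act_mul, ← e, act_inv_act]
  have hR0bot : R0 = ⊥ := by
    by_contra hne
    have hN := h.normalizer_le (T.2.to_le (inf_le_left.trans inf_le_left : R0 ≤ (T : Subgroup P)))
      hne ?_
    · refine hHM (le_trans (fun g hg => ?_) hN)
      rw [Subgroup.mem_normalizer_iff]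
      intro r
      constructor
      · intro hr
        rwa [hR0H r hr g hg, mul_inv_cancel_right]
      · intro hr
        have e := hR0H _ hr g hg
        rw [inv_mul_cancel_right] at e
        rw [← mul_left_cancel e]
        exact hr
    · have key : ∀ g ∈ offJp ρ p (T : Subgroup P), ∀ r ∈ R0, g * r * g⁻¹ ∈ R0 := by
        rintro g hg r ⟨⟨hrT, hrN⟩, hrι⟩
        refine Subgroup.mem_inf.2 ⟨Subgroup.mem_inf.2 ⟨mul_mem (mul_mem hg.1 hrT) (inv_mem hg.1),
          mul_mem (mul_mem (hJpN hg) hrN) (inv_mem (hJpN hg))⟩, ?_⟩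
        rintro _ ⟨y, rfl⟩
        obtain ⟨z, hz⟩ := hιpres g⁻¹ (inv_mem (hJpN hg)) y
        rw [act_mul, act_mul, hz, hrι _ ⟨z, rfl⟩, ← hz, act_act_inv]
      intro g hg
      rw [Subgroup.mem_normalizer_iff]
      refine fun y => ⟨key g hg y, fun hy => ?_⟩
      have h1 := key g⁻¹ (inv_mem hg) _ hy
      convert h1 using 1
      group
  -- `J = C`
  have hJC : offJ ρ p (T : Subgroup P) ≤ C := by
    intro x hx
    have hxN := hJN hx
    have hxT : x ∈ (T : Subgroup P) := famJoin_le _ _ hx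
    have hsig : ∀ s b, fr.phi0 x (s * b) = s * fr.phi1 x b := fun s b => by
      obtain ⟨s', hs', hσ⟩ := fr.exists_sigma hxN s
      rw [hJc x hx _ (fr.cEl_mem s), mul_inv_cancel_right] at hs'
      rw [hσ b, fr.cEl_injective hs']
    have hlin : ∀ a, fr.phi0 x a = a * fr.phi1 x 1 := fun a => by rw [← hsig, mul_one]
    have hk : fr.phi1 x 1 = 1 := by
      have e := hlin a0
      rw [hfix x hx] at e
      exact (mul_eq_left₀ ha0).1 e.symm
    have h0 : ∀ a, fr.phi0 x a = a := fun a => by rw [hlin, hk, mul_one]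
    have h1 : ∀ b, fr.phi1 x b = b := fun b => by
      have e := hsig 1 b
      rwa [one_mul, one_mul, h0, eq_comm] at e
    have hx0 : ∀ a, ρ x (fr.ι0 a) = fr.ι0 a := fun a => by rw [fr.act_ι0 hxN, h0]
    set γ : fr.F →+ fr.F := fr.ga x with hγ
    have hx2 : ∀ b, ρ x (fr.ι2 b) = fr.ι2 b + fr.ι0 (γ b) := fun b => by
      refine fr.pr_ext ?_ ?_ ?_
      · rw [map_add, Frame.pr0_ι2, Frame.pr0_ι0, zero_add, hγ, Frame.ga_apply]
      · rw [map_add, Frame.pr1_ι2, Frame.pr1_ι0, add_zero, ← fr.phi1_apply, h1]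
      · obtain ⟨z, hz⟩ := hιpres x hxN ![0, b]
        rw [map_add, Frame.uP_ι2, Frame.uP_ι0, add_zero, Frame.ι2_apply, hz, Frame.uP_ι]
    have hrel : ∀ a : fr.F, a ≠ 0 → ∃ c, ∀ b, a * γ (a * b) = γ b + c * b := by
      intro a ha
      set t := fr.tEl (Units.mk0 a ha) with ht
      have htN : ∀ v, fr.pr1 v = 0 → ρ (t * x * t⁻¹) v = ρ x v := by
        intro v hv
        have hd : v = fr.ι0 (fr.pr0 v) + fr.uP v := fr.pr_ext (by simp) (by simp [hv]) (by simp)
        have hxu : fr.χ (ρ x (fr.uP v)) = 0 := hUpres x hxN _ (fr.χ_uP v)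
        obtain ⟨t0, t1, tu⟩ := fr.tEl_act (Units.mk0 a ha)⁻¹ (fr.ι0 (fr.pr0 v))
        have e1 : ρ t⁻¹ (fr.ι0 (fr.pr0 v)) = fr.ι0 (a⁻¹ * fr.pr0 v) := by
          rw [ht, fr.tEl_inv]
          exact fr.pr_ext (by rw [t0]; simp) (by rw [t1]; simp) (by rw [tu]; simp)
        obtain ⟨t0', t1', tu'⟩ := fr.tEl_act (Units.mk0 a ha) (fr.ι0 (a⁻¹ * fr.pr0 v))
        have e2 : ρ t (fr.ι0 (a⁻¹ * fr.pr0 v)) = fr.ι0 (fr.pr0 v) := by
          rw [ht]
          exact fr.pr_ext (by rw [t0']; simp [ha]) (by rw [t1']; simp) (by rw [tu']; simp)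
        have e3 : ρ t⁻¹ (fr.uP v) = fr.uP v := by
          rw [ht, fr.tEl_inv]
          exact fr.ker _ (fr.χ_uP v) _ (SetLike.coe_mem _)
        have e4 : ρ t (ρ x (fr.uP v)) = ρ x (fr.uP v) := fr.ker _ hxu _ (SetLike.coe_mem _)
        rw [hd, map_add, map_add, act_mul, act_mul, e1, hx0, e2, hx0, act_mul, act_mul, e3, e4]
      have hmem : t * x * t⁻¹ * x⁻¹ ∈ fr.kW := by
        refine ⟨fun v hv => ?_, fun v => ?_⟩
        · have hw : fr.pr1 (ρ x⁻¹ v) = 0 := fr.norm_W (inv_mem hxN) hv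
          rw [act_mul, htN _ hw, act_act_inv]
        · have hp1 : ∀ w, fr.pr1 (ρ x w) = fr.pr1 w := fun w => by rw [hpr1 x hxN, h1]
          have hp2 : ∀ w, fr.pr1 (ρ (t * x * t⁻¹) w) = fr.pr1 w := fun w => by
            rw [act_mul, act_mul, ht, fr.tEl_inv, (fr.tEl_act _ _).2.1, hp1,
              (fr.tEl_act _ _).2.1]
            simp [ha]
          have e5 := hp1 (ρ x⁻¹ v)
          rw [act_act_inv] at e5
          rw [act_mul, hp2, ← e5]
      obtain ⟨c, hc⟩ := fr.exists_cEl (fr.mem_of_kW h hmem)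
      refine ⟨c, fun b => ?_⟩
      have e := congrArg (fun g => fr.pr0 (ρ g (ρ x (fr.ι2 b)))) hc
      have e6 : ρ t⁻¹ (fr.ι2 b) = fr.ι2 (a * b) := by
        obtain ⟨t0, t1, tu⟩ := fr.tEl_act (Units.mk0 a ha)⁻¹ (fr.ι2 b)
        rw [ht, fr.tEl_inv]
        exact fr.pr_ext (by rw [t0]; simp) (by rw [t1]; simp) (by rw [tu]; simp)
      simp only [act_mul, act_inv_act] at e
      rw [e6] at e
      simp only [hx2, fr.cEl_act, map_add, Frame.pr0_ι2, Frame.pr0_ι0,
        Frame.pr1_ι2, Frame.pr1_ι0, add_zero, zero_add, ht, (fr.tEl_act _ _).1, Units.val_mk0] at e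
      simpa using e
    let δ : fr.F →+ fr.F := γ - (AddMonoidHom.mulRight (γ 1))
    have hδ : ∀ b, δ b = 0 := gamma_eq_zero fr.two_ne δ (by simp [δ]) fun a b ha hb => by
      obtain ⟨c, hc⟩ := hrel a ha
      have e1 := hc 1
      have e2 := hc b
      rw [mul_one, mul_one] at e1
      simp only [δ, AddMonoidHom.sub_apply, AddMonoidHom.coe_mulRight]
      linear_combination b * e2 - b ^ 2 * e1
    have hr : x * fr.cEl (-γ 1) ∈ R0 := by
      refine ⟨⟨mul_mem hxT (hCT (fr.cEl_mem _)),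
        mul_mem hxN (Subgroup.le_normalizer (fr.cEl_mem _))⟩, ?_⟩
      rintro _ ⟨y, rfl⟩
      have hy : fr.ι y = fr.ι0 (y 0) + fr.ι2 (y 1) := by
        rw [Frame.ι0_apply, Frame.ι2_apply, ← map_add]
        congr 1
        ext i
        fin_cases i <;> simp
      have hd := hδ (y 1)
      simp only [δ, AddMonoidHom.sub_apply, AddMonoidHom.coe_mulRight, sub_eq_zero] at hd
      rw [hy, act_mul, fr.cEl_act]
      simp only [map_add, Frame.pr1_ι0, Frame.pr1_ι2, zero_add, hx0, hx2, hd, neg_mul, map_neg,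
        mul_comm (γ 1) (y 1)]
      abel
    rw [hR0bot, Subgroup.mem_bot, mul_eq_one_iff_eq_inv] at hr
    rw [hr]
    exact inv_mem (fr.cEl_mem _)
  -- `Jp = C`
  have hJpC : offJp ρ p (T : Subgroup P) ≤ C := by
    intro x hx
    have hxN := hJpN hx
    have hfixx : ∀ v, fr.pr1 v = 0 → ρ x v = v := fun v hv =>
      hx.2 v (fix_anti ρ hJC (fr.mem_fix_iff.2 hv))
    have h0 : ∀ a, fr.phi0 x a = a := fun a => by
      rw [fr.phi0_apply, hfixx _ (fr.pr1_ι0 a), Frame.pr0_ι0]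
    obtain ⟨n, hn⟩ := T.2 ⟨x, hx.1⟩
    obtain ⟨h1, -⟩ := fr.phi1_eq_of_phi0 hxN h0 (n := n) (congrArg Subtype.val hn)
    exact fr.mem_of_kW h ⟨hfixx, fun v => by rw [hpr1 x hxN, h1]⟩
  have hH : fr.H = ⊤ := by
    by_contra hne
    exact hHM (h.huniq _ (hJpC.trans fr.le) hne)
  refine ⟨C, le_antisymm hCT ?_, fr, hH⟩
  by_contra hne
  have hlt : C.subgroupOf (T : Subgroup P) < ⊤ := by
    rw [lt_top_iff_ne_top, Ne, Subgroup.subgroupOf_eq_top]
    exact hne
  have : Group.IsNilpotent (T : Subgroup P) := T.2.isNilpotent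
  obtain ⟨g, hgn, hgC⟩ := Set.exists_of_ssubset
    (Group.normalizerCondition_of_isNilpotent (G := (T : Subgroup P)) _ hlt)
  refine hgC (Subgroup.mem_subgroupOf.2 ?_)
  have hgN : (g : P) ∈ Subgroup.normalizer (C : Set P) := by
    rw [Subgroup.mem_normalizer_iff]
    intro y
    constructor
    · intro hy
      exact (Subgroup.mem_normalizer_iff.1 hgn ⟨y, hCT hy⟩).1 hy
    · intro hy
      have hy' : y ∈ (T : Subgroup P) := by
        have h3 := mul_mem (mul_mem (inv_mem g.2) (hCT hy)) g.2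
        simpa [mul_assoc] using h3
      exact (Subgroup.mem_normalizer_iff.1 hgn ⟨y, hy'⟩).2 hy
  have hgH : (g : P) ∈ fr.H := hH.ge (Subgroup.mem_top _)
  have hlin : ∀ a, fr.phi0 (g : P) a = a * fr.phi0 (g : P) 1 := by
    intro a
    simp only [fr.phi0_apply, fr.act_H ⟨(g : P), hgH⟩, map_add, Frame.pr0_apply, Frame.χ_ι,
      Frame.χ_uP, Frame.ι0_apply]
    simp [Matrix.mulVec, dotProduct, Fin.sum_univ_two, mul_comm]
  obtain ⟨n, hn⟩ := T.2 g
  have hn' : (g : P) ^ p ^ n = 1 := congrArg Subtype.val hn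
  have hk : fr.phi0 (g : P) 1 = 1 := by
    refine eq_one_of_pow_p_pow fr.natCast_p (n := n) ?_
    have hpow : ∀ k : ℕ, fr.phi0 ((g : P) ^ k) 1 = fr.phi0 (g : P) 1 ^ k := by
      intro k
      induction k with
      | zero => rw [pow_zero, pow_zero, Frame.phi0_one]
      | succ k ih => rw [pow_succ', fr.phi0_mul (pow_mem hgN k), hlin, ih, ← pow_succ]
    rw [← hpow, hn', Frame.phi0_one]
  have h0 : ∀ a, fr.phi0 (g : P) a = a := fun a => by rw [hlin, hk, mul_one]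
  obtain ⟨h1, -⟩ := fr.phi1_eq_of_phi0 hgN h0 hn'
  refine fr.mem_of_kW h ⟨fun v hv => ?_, fun v => by rw [hpr1 _ hgN, h1]⟩
  have hd : v = fr.ι0 (fr.pr0 v) + fr.uP v := fr.pr_ext (by simp) (by simp [hv]) (by simp)
  rw [hd, map_add, fr.act_ι0 hgN, h0, fr.ker _ (fr.χ_uP v) _ hgH]

end Hyp

end CfsgLib.FocalOdd
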